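import Mathlib
import Cfsg.Agent.Lib.Coprime.Action

/-!
Elementwise fixed points of the commutator of a group with an operator of prime order: basic
properties.
-/

set_option autoImplicit false
set_option linter.unusedSectionVars false

namespace CfsgLib.Char.ElementwiseFixed

open Subgroup CfsgLib.Coprime
open scoped commutatorElement

universe u

variable {G : Type u} [Group G]

/-- The element `h⁻¹ hᵃ` for a power of the operator. -/
def ce (a h : G) (i : ℕ) : G := h⁻¹ * (a ^ i * h * (a ^ i)⁻¹)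

/-- The subgroup attached to one element. -/
def Wg (a h : G) : Subgroup G := closure (Set.range (ce a h))

/-- The subgroup generated by the elementwise fixed points. -/
def Kf (a : G) (J : Subgroup G) : Subgroup G :=
  ⨆ h ∈ J, Wg a h ⊓ centralizer ({a} : Set G)

/-- The hypotheses. -/
structure Op (p : ℕ) (a : G) (J : Subgroup G) : Prop where
  prime : p.Prime
  odd : p ≠ 2
  pow : a ^ p = 1
  inv : ∀ x ∈ J, a * x * a⁻¹ ∈ J
  solv : Group.IsSolvable J
  cop : (Nat.card J).Coprime p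

theorem centralizer_zpowers (a : G) :
    centralizer ((zpowers a : Subgroup G) : Set G) = centralizer ({a} : Set G) := by
  rw [zpowers_eq_closure, centralizer_closure]

theorem fixed_iff {a x : G} : x ∈ centralizer ({a} : Set G) ↔ a * x * a⁻¹ = x := by
  rw [mem_centralizer_singleton_iff, mul_inv_eq_iff_eq_mul]
  exact ⟨Eq.symm, Eq.symm⟩

theorem ce_mem_commutator {a h : G} {J : Subgroup G} (hh : h ∈ J) (i : ℕ) :
    ce a h i ∈ ⁅J, zpowers a⁆ := by
  have : ce a h i = ⁅h⁻¹, a ^ i⁆ := by rw [ce, commutatorElement_def]; group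
  rw [this]
  exact commutator_mem_commutator (inv_mem hh) (pow_mem (mem_zpowers a) i)

theorem Wg_le_commutator {a h : G} {J : Subgroup G} (hh : h ∈ J) :
    Wg a h ≤ ⁅J, zpowers a⁆ :=
  (closure_le _).2 (by rintro _ ⟨i, rfl⟩; exact ce_mem_commutator hh i)

theorem conj_ce (a h : G) (i j : ℕ) :
    a ^ j * ce a h i * (a ^ j)⁻¹ = (ce a h j)⁻¹ * ce a h (j + i) := by
  simp only [ce, pow_add]; group

theorem Wg_conj {a h w : G} (hw : w ∈ Wg a h) : a * w * a⁻¹ ∈ Wg a h := by
  induction hw using closure_induction with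
  | mem x hx =>
    obtain ⟨i, rfl⟩ := hx
    have := conj_ce a h i 1
    rw [pow_one] at this
    rw [this]
    exact mul_mem (inv_mem (subset_closure ⟨1, rfl⟩)) (subset_closure ⟨1 + i, rfl⟩)
  | one => simp
  | mul x y _ _ hx hy =>
    rw [show a * (x * y) * a⁻¹ = (a * x * a⁻¹) * (a * y * a⁻¹) by group]
    exact mul_mem hx hy
  | inv x _ hx => rw [show a * x⁻¹ * a⁻¹ = (a * x * a⁻¹)⁻¹ by group]; exact inv_mem hx

theorem le_Kf {a h : G} {J : Subgroup G} (hh : h ∈ J) :
    Wg a h ⊓ centralizer ({a} : Set G) ≤ Kf a J :=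
  le_iSup₂ (f := fun h (_ : h ∈ J) => Wg a h ⊓ centralizer ({a} : Set G)) h hh

theorem mem_Kf {a h w : G} {J : Subgroup G} (hh : h ∈ J) (hw : w ∈ Wg a h)
    (hf : w ∈ centralizer ({a} : Set G)) : w ∈ Kf a J :=
  le_Kf hh ⟨hw, hf⟩

theorem Kf_mono {a : G} {J J' : Subgroup G} (h : J ≤ J') : Kf a J ≤ Kf a J' :=
  iSup₂_le fun _ hh => le_Kf (h hh)

theorem Kf_le_commutator (a : G) (J : Subgroup G) :
    Kf a J ≤ ⁅J, zpowers a⁆ ⊓ centralizer ({a} : Set G) :=
  iSup₂_le fun _ hh => inf_le_inf_right _ (Wg_le_commutator hh)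

theorem ce_map {G' : Type u} [Group G'] (f : G →* G') (a h : G) (i : ℕ) :
    f (ce a h i) = ce (f a) (f h) i := by simp [ce]

theorem Wg_map {G' : Type u} [Group G'] (f : G →* G') (a h : G) :
    (Wg a h).map f = Wg (f a) (f h) := by
  rw [Wg, Wg, MonoidHom.map_closure]
  congr 1
  rw [← Set.range_comp]
  exact congrArg Set.range (funext fun i => ce_map f a h i)

theorem Kf_map_le {G' : Type u} [Group G'] (f : G →* G') (a : G) (J : Subgroup G) :
    (Kf a J).map f ≤ Kf (f a) (J.map f) := by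
  rw [map_le_iff_le_comap]
  refine iSup₂_le fun h hh x hx => mem_Kf (mem_map_of_mem f hh) ?_ ?_
  · rw [← Wg_map]; exact mem_map_of_mem f hx.1
  · rw [mem_centralizer_singleton_iff, ← map_mul, ← map_mul,
      mem_centralizer_singleton_iff.1 hx.2]

theorem commutator_map {G' : Type u} [Group G'] (f : G →* G') (a : G) (J : Subgroup G) :
    (⁅J, zpowers a⁆ : Subgroup G).map f = ⁅J.map f, zpowers (f a)⁆ := by
  rw [map_commutator, MonoidHom.map_zpowers]

/-- Commutator with the operator in terms of the elements. -/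
theorem commutator_eq_closure [Finite G] (a : G) (J : Subgroup G) :
    ⁅J, zpowers a⁆ = closure {x | ∃ h ∈ J, ∃ i, x = ce a h i} := by
  refine le_antisymm ((commutator_le).2 fun h hh b hb => ?_) ((closure_le _).2 ?_)
  · obtain ⟨i, rfl⟩ := ((IsOfFinOrder.mem_powers_iff_mem_zpowers (isOfFinOrder_of_finite a)).2 hb :
      b ∈ Submonoid.powers a)
    refine subset_closure ⟨h⁻¹, inv_mem hh, i, ?_⟩
    simp only [commutatorElement_def, ce]; group
  · rintro _ ⟨h, hh, i, rfl⟩
    exact ce_mem_commutator hh i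

section

variable [Finite G]

theorem zpowers_le_normalizer {a : G} {W : Subgroup G} (h : ∀ w ∈ W, a * w * a⁻¹ ∈ W) :
    zpowers a ≤ normalizer (W : Set G) := by
  rw [zpowers_le, ← conjBy_eq_self_iff, conjBy]
  refine Subgroup.eq_of_le_of_card_ge ?_ ?_
  · rintro _ ⟨w, hw, rfl⟩
    exact h w hw
  · rw [card_map_of_injective (MulEquiv.injective _)]

variable {p : ℕ} {a : G} {J : Subgroup G}

theorem Op.norm (h : Op p a J) : zpowers a ≤ normalizer (J : Set G) :=
  zpowers_le_normalizer h.inv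

theorem Op.cop' (h : Op p a J) {W : Subgroup G} (hW : W ≤ J) :
    (Nat.card (zpowers a)).Coprime (Nat.card W) := by
  rw [Nat.card_zpowers]
  exact ((h.cop.coprime_dvd_left (card_dvd_of_le hW)).symm).coprime_dvd_left
    (orderOf_dvd_of_pow_eq_one h.pow)

theorem Op.solvA : Group.IsSolvable (zpowers a) :=
  isSolvable_of_isMulCommutative inferInstance

theorem Op.mono (h : Op p a J) {W : Subgroup G} (hW : W ≤ J) (hi : ∀ w ∈ W, a * w * a⁻¹ ∈ W) :
    Op p a W where
  prime := h.prime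
  odd := h.odd
  pow := h.pow
  inv := hi
  solv := isSolvable_of_le hW h.solv
  cop := h.cop.coprime_dvd_left (card_dvd_of_le hW)

theorem Op.commutator_le (h : Op p a J) : ⁅J, zpowers a⁆ ≤ J := by
  conv_rhs => rw [← commutator_sup_centralizer h.norm (h.cop' le_rfl) (Or.inl Op.solvA)]
  exact le_sup_left

theorem Op.sup_eq (h : Op p a J) :
    ⁅J, zpowers a⁆ ⊔ (J ⊓ centralizer ({a} : Set G)) = J := by
  rw [← centralizer_zpowers]
  exact commutator_sup_centralizer h.norm (h.cop' le_rfl) (Or.inl Op.solvA)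

theorem Op.commutator_twice (h : Op p a J) :
    ⁅⁅J, zpowers a⁆, zpowers a⁆ = ⁅J, zpowers a⁆ :=
  commutator_commutator_eq h.norm (h.cop' le_rfl) (Or.inl Op.solvA)

theorem conj_commutator (hJ : ∀ x ∈ J, a * x * a⁻¹ ∈ J) {x : G} (hx : x ∈ ⁅J, zpowers a⁆) :
    a * x * a⁻¹ ∈ ⁅J, zpowers a⁆ := by
  have h1 : zpowers a ≤ normalizer ((⁅J, zpowers a⁆ : Subgroup G) : Set G) := by
    rw [commutator_comm]; exact normalizer_commutator_ge_left _ _
  exact (Subgroup.mem_normalizer_iff.1 (h1 (mem_zpowers a)) x).1 hx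

theorem exists_decomp (h : Op p a J) {x : G} (hx : x ∈ J) :
    ∃ y ∈ ⁅J, zpowers a⁆, ∃ c ∈ J ⊓ centralizer ({a} : Set G), y * c = x := by
  rw [← h.sup_eq] at hx
  exact mem_sup_exists (inf_le_left.trans (normalizer_commutator_ge_left J (zpowers a))) hx

theorem inf_eq_bot_of_comm (h : Op p a J) (hc : IsMulCommutative J) :
    (J ⊓ centralizer ({a} : Set G)) ⊓ ⁅J, zpowers a⁆ = ⊥ := by
  rw [← centralizer_zpowers]
  exact centralizer_inf_commutator_eq_bot hc h.norm (h.cop' le_rfl)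

theorem Kf_le_J (h : Op p a J) : Kf a J ≤ J :=
  (Kf_le_commutator a J).trans (inf_le_left.trans h.commutator_le)

theorem conj_Kf {c k : G} (hc : c ∈ J) (hca : c ∈ centralizer ({a} : Set G))
    (hk : k ∈ Kf a J) : c * k * c⁻¹ ∈ Kf a J := by
  have hle : (Kf a J).map (MulAut.conj c).toMonoidHom ≤ Kf a J := by
    rw [map_le_iff_le_comap]
    refine iSup₂_le fun h hh x hx => ?_
    show c * x * c⁻¹ ∈ Kf a J
    refine mem_Kf (mul_mem hh (inv_mem hc)) ?_ (mul_mem (mul_mem hca hx.2) (inv_mem hca))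
    have hW := Wg_map (MulAut.conj c).toMonoidHom a h
    have hW' : c * x * c⁻¹ ∈ Wg (c * a * c⁻¹) (c * h * c⁻¹) := by
      have h' : (MulAut.conj c).toMonoidHom x ∈ (Wg a h).map (MulAut.conj c).toMonoidHom :=
        mem_map_of_mem _ hx.1
      rw [hW] at h'
      simpa using h'
    have hca' : c * a * c⁻¹ = a := by
      rw [mem_centralizer_singleton_iff.1 hca, mul_inv_cancel_right]
    rw [hca'] at hW'
    have hce : ∀ i, ce a (c * h * c⁻¹) i = ce a (h * c⁻¹) i := by
      intro i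
      have hi : Commute c⁻¹ (a ^ i) :=
        ((show Commute c a from mem_centralizer_singleton_iff.1 hca).pow_right i).inv_left
      calc ce a (c * h * c⁻¹) i = c * h⁻¹ * (c⁻¹ * a ^ i) * c * h * c⁻¹ * (a ^ i)⁻¹ := by
            rw [ce]; group
        _ = c * h⁻¹ * (a ^ i * c⁻¹) * c * h * c⁻¹ * (a ^ i)⁻¹ := by rw [hi.eq]
        _ = ce a (h * c⁻¹) i := by rw [ce]; group
    rwa [Wg, funext hce] at hW'
  exact hle (mem_map_of_mem (MulAut.conj c).toMonoidHom hk)

/-- Lifting fixed points from a quotient. -/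
theorem lift_fixed {G₂ : Type u} [Group G₂] (f : G →* G₂) (h : Op p a J)
    (hD : ⁅J, zpowers a⁆ = J)
    (hq : ⁅J.map f, zpowers (f a)⁆ ⊓ centralizer ({f a} : Set G₂) ≤ Kf (f a) (J.map f))
    {x : G} (hx : x ∈ J) (hxa : x ∈ centralizer ({a} : Set G)) :
    ∃ k ∈ Kf a J, k⁻¹ * x ∈ f.ker := by
  have hle : Kf (f a) (J.map f) ≤ (Kf a J).map f := by
    refine iSup₂_le ?_
    rintro _ ⟨g, hg, rfl⟩ y ⟨hyW, hya⟩
    rw [← Wg_map] at hyW
    obtain ⟨w, hw, rfl⟩ := hyW
    have hWJ : Wg a g ≤ J := (Wg_le_commutator hg).trans h.commutator_le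
    have hfix : a * w * a⁻¹ * w⁻¹ ∈ f.ker ⊓ Wg a g := by
      refine ⟨?_, (Wg a g).mul_mem (Wg_conj hw) ((Wg a g).inv_mem hw)⟩
      show f (a * w * a⁻¹ * w⁻¹) = 1
      rw [map_mul, map_mul, map_mul, map_inv, map_inv, fixed_iff.1 hya, mul_inv_cancel]
    have hker : ∀ {A : Subgroup G}, A ≤ normalizer (f.ker : Set G) := fun {A} b _ =>
      Subgroup.mem_normalizer_iff.2 fun t => by simp [MonoidHom.mem_ker, mul_inv_eq_one]
    obtain ⟨n, hn, hnf⟩ := exists_fixed_in_coset (A := zpowers a) (N := f.ker ⊓ Wg a g)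
      (inf_le_normalizer hker
        (zpowers_le_normalizer fun _ => Wg_conj))
      (h.cop' (inf_le_right.trans hWJ)) (Or.inl Op.solvA) (k := w)
      (inf_le_normalizer hker le_normalizer hw)
      (by
        intro b hb
        obtain ⟨i, rfl⟩ := ((IsOfFinOrder.mem_powers_iff_mem_zpowers (isOfFinOrder_of_finite a)).2
          hb : b ∈ Submonoid.powers a)
        show a ^ i * w * (a ^ i)⁻¹ * w⁻¹ ∈ f.ker ⊓ Wg a g
        clear hb
        induction i with
        | zero => simp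
        | succ i ih =>
          have h1 : a * (a ^ i * w * (a ^ i)⁻¹ * w⁻¹) * a⁻¹ ∈ f.ker ⊓ Wg a g :=
            ⟨f.normal_ker.conj_mem _ ih.1 a, Wg_conj ih.2⟩
          convert mul_mem h1 hfix using 1
          rw [pow_succ']; group)
    rw [centralizer_zpowers] at hnf
    refine ⟨w * n, mem_Kf hg (mul_mem hw hn.2) hnf, ?_⟩
    rw [map_mul, show f n = 1 from hn.1, mul_one]
  have hfx : f x ∈ (Kf a J).map f := by
    refine hle (hq ⟨?_, fixed_iff.2 (by rw [← map_inv, ← map_mul, ← map_mul, fixed_iff.1 hxa])⟩)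
    rw [← commutator_map, hD]
    exact mem_map_of_mem f hx
  obtain ⟨k, hk, hkx⟩ := hfx
  exact ⟨k, hk, by show f (k⁻¹ * x) = 1; rw [map_mul, map_inv, hkx, inv_mul_cancel]⟩

end

end CfsgLib.Char.ElementwiseFixed
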