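import Mathlib
import Cfsg.Agent.Lib.Char.ElementwiseFixed.Basic

/-!
Elementwise fixed points of the commutator: the inductive step, generalities.
-/

set_option autoImplicit false
set_option linter.unusedSectionVars false

namespace CfsgLib.Char.ElementwiseFixed

open Subgroup CfsgLib.Coprime
open scoped commutatorElement

universe u

variable {G : Type u} [Group G]

theorem conj_comm_mem {U V : Subgroup G} {g : G} (hU : ∀ u ∈ U, g * u * g⁻¹ ∈ U)
    (hV : ∀ v ∈ V, g * v * g⁻¹ ∈ V) {x : G} (hx : x ∈ ⁅U, V⁆) : g * x * g⁻¹ ∈ ⁅U, V⁆ := by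
  have hle : ⁅U, V⁆ ≤ (⁅U, V⁆ : Subgroup G).comap (MulAut.conj g).toMonoidHom := by
    rw [commutator_le]
    intro u hu v hv
    show g * ⁅u, v⁆ * g⁻¹ ∈ ⁅U, V⁆
    rw [show g * ⁅u, v⁆ * g⁻¹ = ⁅g * u * g⁻¹, g * v * g⁻¹⁆ by
      simp only [commutatorElement_def]; group]
    exact commutator_mem_commutator (hU u hu) (hV v hv)
  exact hle hx

/-- An invariant normal subgroup. -/
structure Inv (a : G) (J W : Subgroup G) : Prop where
  le : W ≤ J
  norm : ∀ g ∈ J, ∀ w ∈ W, g * w * g⁻¹ ∈ W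
  inv : ∀ w ∈ W, a * w * a⁻¹ ∈ W

variable [Finite G] {p : ℕ} {a : G} {J : Subgroup G}

/-- The situation of a minimal counterexample. -/
structure Min (p : ℕ) (a : G) (J : Subgroup G) : Prop where
  op : Op p a J
  full : ⁅J, zpowers a⁆ = J
  sub : ∀ W : Subgroup G, W < J → (∀ w ∈ W, a * w * a⁻¹ ∈ W) →
    ⁅W, zpowers a⁆ ⊓ centralizer ({a} : Set G) ≤ Kf a J
  quot : ∀ V : Subgroup G, Inv a J V → V ≠ ⊥ →
    ∀ x ∈ J, x ∈ centralizer ({a} : Set G) → ∃ k ∈ Kf a J, k⁻¹ * x ∈ V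

/-- What is to be proved. -/
def Good (a : G) (J : Subgroup G) : Prop := J ⊓ centralizer ({a} : Set G) ≤ Kf a J

theorem Kf_fixed {k : G} (hk : k ∈ Kf a J) : k ∈ centralizer ({a} : Set G) :=
  (Kf_le_commutator a J hk).2

theorem Min.fixed_of_quot (M : Min p a J) {V : Subgroup G} (hV : Inv a J V) (hne : V ≠ ⊥)
    {x : G} (hx : x ∈ J) (hxa : x ∈ centralizer ({a} : Set G)) :
    ∃ k ∈ Kf a J, ∃ v ∈ V ⊓ centralizer ({a} : Set G), x = k * v := by
  obtain ⟨k, hk, hkx⟩ := M.quot V hV hne x hx hxa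
  exact ⟨k, hk, k⁻¹ * x, ⟨hkx, (centralizer ({a} : Set G)).mul_mem ((centralizer ({a} : Set G)).inv_mem (Kf_fixed hk)) hxa⟩, by group⟩

theorem Min.good_of_le (M : Min p a J) {V : Subgroup G} (hV : Inv a J V) (hne : V ≠ ⊥)
    (h : V ⊓ centralizer ({a} : Set G) ≤ Kf a J) : Good a J := by
  rintro x ⟨hx, hxa⟩
  obtain ⟨k, hk, v, hv, rfl⟩ := M.fixed_of_quot hV hne hx hxa
  exact mul_mem hk (h hv)

theorem Min.good_of_bot (M : Min p a J) {V : Subgroup G} (hV : Inv a J V) (hne : V ≠ ⊥)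
    (h : V ⊓ centralizer ({a} : Set G) = ⊥) : Good a J :=
  M.good_of_le hV hne (by rw [h]; exact bot_le)

theorem Min.pow_mem (M : Min p a J) {k v : G} (hk : k ∈ Kf a J) (hv : v ∈ J)
    (hva : v ∈ centralizer ({a} : Set G)) (n : ℕ) : ∃ k' ∈ Kf a J, (k * v) ^ n = k' * v ^ n := by
  induction n with
  | zero => exact ⟨1, one_mem _, by simp⟩
  | succ n ih =>
    obtain ⟨k', hk', e⟩ := ih
    refine ⟨k' * (v ^ n * k * (v ^ n)⁻¹), mul_mem hk' (conj_Kf (Subgroup.pow_mem _ hv n) (Subgroup.pow_mem _ hva n) hk), ?_⟩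
    rw [pow_succ, e, pow_succ]; group

/-- Two invariant normal subgroups of coprime orders suffice. -/
theorem Min.good_of_coprime (M : Min p a J) {V R : Subgroup G} (hV : Inv a J V) (hVne : V ≠ ⊥)
    (hR : Inv a J R) (hRne : R ≠ ⊥) (hcop : (Nat.card V).Coprime (Nat.card R)) : Good a J := by
  refine M.good_of_le hV hVne ?_
  rintro v ⟨hv, hva⟩
  obtain ⟨k, hk, w, hw, e⟩ := M.fixed_of_quot hR hRne (hV.le hv) hva
  obtain ⟨k', hk', e'⟩ := M.pow_mem hk (hR.le hw.1) hw.2 (Nat.card R)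
  have h1 : w ^ Nat.card R = 1 := by
    exact orderOf_dvd_iff_pow_eq_one.1 (Subgroup.orderOf_dvd_natCard R hw.1)
  rw [h1, mul_one, ← e] at e'
  have h2 : v ^ Nat.card V = 1 := by
    exact orderOf_dvd_iff_pow_eq_one.1 (Subgroup.orderOf_dvd_natCard V hv)
  have h3 : v ∈ zpowers (v ^ Nat.card R) :=
    mem_zpowers_pow_iff.2 (Nat.Coprime.coprime_dvd_right (orderOf_dvd_of_pow_eq_one h2) hcop.symm)
  exact (zpowers_le.2 (by rw [e']; exact hk')) h3

/-- A minimal invariant normal subgroup is an elementary abelian group. -/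
theorem Min.exists_minimal (M : Min p a J) (hne : J ≠ ⊥) :
    ∃ V : Subgroup G, ∃ q : ℕ, q.Prime ∧ Inv a J V ∧ V ≠ ⊥ ∧ IsMulCommutative V ∧
      (∀ v ∈ V, v ^ q = 1) ∧ ∀ W : Subgroup G, Inv a J W → W ≤ V → W ≠ ⊥ → W = V := by
  obtain ⟨V, ⟨hV, hVne⟩, hmin⟩ := (Set.toFinite {W : Subgroup G | Inv a J W ∧ W ≠ ⊥}).exists_minimal
    ⟨J, ⟨le_rfl, fun g hg w hw => mul_mem (mul_mem hg hw) (inv_mem hg), M.op.inv⟩, hne⟩
  have hm : ∀ W : Subgroup G, Inv a J W → W ≤ V → W ≠ ⊥ → W = V := fun W hW hWV hW0 =>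
    le_antisymm hWV (hmin ⟨hW, hW0⟩ hWV)
  haveI : Group.IsSolvable V := isSolvable_of_le hV.le M.op.solv
  have hder : ⁅V, V⁆ = ⊥ := by
    by_contra h
    have hle : ⁅V, V⁆ ≤ V := commutator_le.2 fun x hx y hy => by
      rw [commutatorElement_def]
      exact mul_mem (mul_mem (mul_mem hx hy) (inv_mem hx)) (inv_mem hy)
    have hVV : ⁅V, V⁆ = V := hm _ ⟨hle.trans hV.le,
      fun g hg w hw => conj_comm_mem (hV.norm g hg) (hV.norm g hg) hw,
      fun w hw => conj_comm_mem hV.inv hV.inv hw⟩ hle h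
    haveI : Nontrivial V := nontrivial_iff_ne_bot V |>.2 hVne
    have h2 := IsSolvable.commutator_lt_top_of_nontrivial V
    have h3 := map_subtype_commutator (H := V)
    rw [hVV] at h3
    refine h2.ne ?_
    apply Subgroup.map_injective V.subtype_injective
    rw [h3, ← MonoidHom.range_eq_map, range_subtype]
  have hc : IsMulCommutative V := by
    refine ⟨⟨fun x y => Subtype.ext ?_⟩⟩
    have h := commutator_mem_commutator x.2 y.2
    rw [hder, mem_bot, commutatorElement_eq_one_iff_mul_comm] at h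
    exact h
  haveI : Nontrivial V := nontrivial_iff_ne_bot V |>.2 hVne
  obtain ⟨q, hq, hqd⟩ := Nat.exists_prime_and_dvd (n := Nat.card V) (Finite.one_lt_card).ne'
  haveI := Fact.mk hq
  obtain ⟨x, hx⟩ := exists_prime_orderOf_dvd_card' q hqd
  let W : Subgroup G :=
    { carrier := {v | v ∈ V ∧ v ^ q = 1}
      mul_mem' := by
        rintro u v ⟨hu, hu1⟩ ⟨hv, hv1⟩
        refine ⟨mul_mem hu hv, ?_⟩
        have : Commute u v := congrArg Subtype.val (hc.is_comm.comm (⟨u, hu⟩ : V) ⟨v, hv⟩)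
        rw [this.mul_pow, hu1, hv1, one_mul]
      one_mem' := ⟨one_mem _, one_pow _⟩
      inv_mem' := by
        rintro v ⟨hv, hv1⟩
        exact ⟨inv_mem hv, by rw [inv_pow, hv1, inv_one]⟩ }
  have hW : W = V := by
    refine hm W ⟨fun v hv => hV.le hv.1, fun g hg w hw => ⟨hV.norm g hg w hw.1, ?_⟩,
      fun w hw => ⟨hV.inv w hw.1, ?_⟩⟩ (fun v hv => hv.1) fun h => ?_
    · rw [conj_pow, hw.2]; simp
    · rw [conj_pow, hw.2]; simp
    · have hxW : (x : G) ∈ W := ⟨x.2, by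
        have := pow_orderOf_eq_one x
        rw [hx] at this
        simpa using congrArg Subtype.val this⟩
      rw [h, mem_bot] at hxW
      have : x = 1 := Subtype.ext hxW
      rw [this, orderOf_one] at hx
      exact hq.ne_one hx.symm
  exact ⟨V, q, hq, hV, hVne, hc, fun v hv => (hW.ge hv : v ∈ W).2, hm⟩

theorem isPGroup_of_exp {V : Subgroup G} {q : ℕ} (h : ∀ v ∈ V, v ^ q = 1) : IsPGroup q V :=
  fun v => ⟨1, Subtype.ext (by simpa using h v.1 v.2)⟩

end CfsgLib.Char.ElementwiseFixed
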