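import Mathlib
import Cfsg.Agent.Lib.Char.ElementwiseFixed.Step
import Cfsg.Agent.Lib.Coprime.Solvable

/-!
Elementwise fixed points of the commutator: tools for the central case.
-/

set_option autoImplicit false
set_option linter.unusedSectionVars false

namespace CfsgLib.Char.ElementwiseFixed

open Subgroup CfsgLib.Coprime
open scoped commutatorElement

universe u

variable {G : Type u} [Group G] [Finite G] {p : ℕ} {a : G} {J : Subgroup G}

theorem prod_shift {M : Type*} [CommMonoid M] (F : ℕ → M) (q : ℕ) (hF : ∀ i, F (i + q) = F i)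
    (k : ℕ) : ∏ i ∈ Finset.range q, F (i + k) = ∏ i ∈ Finset.range q, F i := by
  induction k with
  | zero => simp
  | succ k ih =>
    rw [← ih]
    cases q with
    | zero => simp
    | succ m =>
      rw [Finset.prod_range_succ, Finset.prod_range_succ' (fun i => F (i + k))]
      congr 1
      · exact Finset.prod_congr rfl fun i _ => by rw [show i + (k + 1) = i + 1 + k by ring]
      · rw [show m + (k + 1) = k + (m + 1) by ring, hF, zero_add]

/-- Fixed points lie in the derived subgroup when the operator acts fully. -/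
theorem fixed_le_derived (h : Op p a J) (hD : ⁅J, zpowers a⁆ = J) :
    J ⊓ centralizer ({a} : Set G) ≤ ⁅J, J⁆ := by
  haveI : Fact p.Prime := ⟨h.prime⟩
  have hconj : ∀ (i : ℕ) (x : J), a ^ i * (x : G) * (a ^ i)⁻¹ ∈ J := fun i x =>
    (Subgroup.mem_normalizer_iff.1 (h.norm (pow_mem (mem_zpowers a) i)) _).1 x.2
  let τ : ℕ → J →* J := fun i =>
    { toFun := fun x => ⟨a ^ i * (x : G) * (a ^ i)⁻¹, hconj i x⟩
      map_one' := Subtype.ext (by simp)
      map_mul' := fun x y => Subtype.ext (by simp [mul_assoc]) }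
  let ν : J →* Abelianization J := ∏ i ∈ Finset.range p, Abelianization.of.comp (τ i)
  have hν : ∀ x, ν x = ∏ i ∈ Finset.range p, Abelianization.of (τ i x) := fun x => by
    simp [ν, MonoidHom.finset_prod_apply]
  have hper : ∀ x i, τ (i + p) x = τ i x := fun x i => Subtype.ext (by
    show a ^ (i + p) * (x : G) * (a ^ (i + p))⁻¹ = a ^ i * (x : G) * (a ^ i)⁻¹
    rw [pow_add, h.pow, mul_one])
  have hτ : ∀ x k, ν (τ k x) = ν x := by
    intro x k
    rw [hν, hν]
    rw [← prod_shift (fun i => Abelianization.of (τ i x)) p (fun i => by simp only [hper]) k]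
    refine Finset.prod_congr rfl fun i _ => congrArg _ (Subtype.ext ?_)
    show a ^ i * (a ^ k * (x : G) * (a ^ k)⁻¹) * (a ^ i)⁻¹ = a ^ (i + k) * (x : G) * (a ^ (i + k))⁻¹
    rw [pow_add]; group
  have hle : J ≤ ν.ker.map J.subtype := by
    conv_lhs => rw [← hD, commutator_eq_closure]
    rw [closure_le]
    rintro _ ⟨g, hg, i, rfl⟩
    refine ⟨(⟨g, hg⟩ : J)⁻¹ * τ i ⟨g, hg⟩, ?_, rfl⟩
    show ν ((⟨g, hg⟩ : J)⁻¹ * τ i ⟨g, hg⟩) = 1
    rw [map_mul, map_inv, hτ, inv_mul_cancel]
  rintro x ⟨hx, hxa⟩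
  obtain ⟨y, hy, hyx⟩ := hle hx
  have hy' : y = ⟨x, hx⟩ := Subtype.ext hyx
  subst hy'
  have hfix : ∀ i, τ i ⟨x, hx⟩ = ⟨x, hx⟩ := fun i => Subtype.ext (by
    show a ^ i * x * (a ^ i)⁻¹ = x
    rw [mul_inv_eq_iff_eq_mul]
    exact (((show Commute x a from mem_centralizer_singleton_iff.1 hxa)).pow_right i).symm.eq)
  have h1 : Abelianization.of (⟨x, hx⟩ : J) ^ p = 1 := by
    have := hy
    rw [SetLike.mem_coe, MonoidHom.mem_ker, hν] at this
    simpa [hfix] using this
  have h2 : Abelianization.of (⟨x, hx⟩ : J) = 1 := by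
    rw [← orderOf_eq_one_iff]
    refine Nat.eq_one_of_dvd_coprimes h.cop ?_ (orderOf_dvd_of_pow_eq_one h1)
    exact (orderOf_map_dvd _ _).trans (orderOf_dvd_natCard _)
  rw [← map_subtype_commutator]
  exact ⟨⟨x, hx⟩, (Abelianization.ker_of J).le h2, rfl⟩

theorem inv_derived (hJ : ∀ x ∈ J, a * x * a⁻¹ ∈ J) : Inv a J ⁅J, J⁆ where
  le := commutator_le.2 fun u hu v hv => by
    rw [commutatorElement_def]
    exact mul_mem (mul_mem (mul_mem hu hv) (inv_mem hu)) (inv_mem hv)
  norm g hg w hw := conj_comm_mem (fun u hu => mul_mem (mul_mem hg hu) (inv_mem hg))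
    (fun u hu => mul_mem (mul_mem hg hu) (inv_mem hg)) hw
  inv w hw := conj_comm_mem hJ hJ hw

theorem derived_lt (hs : Group.IsSolvable J) (hne : J ≠ ⊥) : ⁅J, J⁆ < J := by
  haveI := hs
  haveI : Nontrivial J := nontrivial_iff_ne_bot J |>.2 hne
  rw [← map_subtype_commutator]
  refine lt_of_le_of_ne (map_subtype_le _) fun h => ?_
  refine (IsSolvable.commutator_lt_top_of_nontrivial J).ne ?_
  apply Subgroup.map_injective J.subtype_injective
  rw [h, ← MonoidHom.range_eq_map, range_subtype]

/-- In a nilpotent group nothing nontrivial equals its commutator with the group. -/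
theorem comm_ne_self {W : Subgroup G} (hn : Group.IsNilpotent J) (hW : W ≤ J) (hne : W ≠ ⊥) :
    ⁅W, J⁆ ≠ W := by
  intro h
  have key : ∀ n, W ≤ ((⊤ : Subgroup J).lowerCentralSeries n).map J.subtype := by
    intro n
    induction n with
    | zero =>
      intro w hw
      exact ⟨⟨w, hW hw⟩, by simp, rfl⟩
    | succ n ih =>
      conv_lhs => rw [← h]
      rw [Subgroup.lowerCentralSeries_succ, map_commutator]
      refine commutator_mono ih ?_
      rw [← MonoidHom.range_eq_map, range_subtype]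
  obtain ⟨n, hn'⟩ := Subgroup.nilpotent_iff_lowerCentralSeries.1 hn
  have := key n
  rw [hn', Subgroup.map_bot] at this
  exact hne (le_bot_iff.1 this)

/-- In a nilpotent group, a subgroup covering the commutator quotient is everything. -/
theorem eq_of_sup_derived {W : Subgroup G} (hn : Group.IsNilpotent J) (hW : W ≤ J)
    (h : W ⊔ ⁅J, J⁆ = J) : W = J := by
  haveI := hn
  by_contra hne
  have hne' : W.subgroupOf J ≠ ⊤ := fun h' => hne (le_antisymm hW fun x hx => by
    have : (⟨x, hx⟩ : J) ∈ W.subgroupOf J := by rw [h']; trivial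
    exact this)
  obtain ⟨Mx, hMx, hle⟩ := (IsCoatomic.eq_top_or_exists_le_coatom (W.subgroupOf J)).resolve_left hne'
  haveI : Mx.Normal := NormalizerCondition.normal_of_coatom Mx Group.normalizerCondition_of_isNilpotent hMx
  have hc : commutator J ≤ Mx := by
    rw [← Subgroup.Normal.quotient_commutative_iff_commutator_le]
    refine ⟨⟨fun x y => ?_⟩⟩
    by_cases hx : x = 1
    · simp [hx]
    have htop : (zpowers x).comap (QuotientGroup.mk' Mx) = ⊤ := by
      refine hMx.2 _ (lt_of_le_of_ne (fun m hm => ?_) fun hcon => hx ?_)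
      · show QuotientGroup.mk' Mx m ∈ zpowers x
        rw [QuotientGroup.mk'_apply, (QuotientGroup.eq_one_iff m).2 hm]
        exact one_mem _
      · obtain ⟨z, rfl⟩ := QuotientGroup.mk'_surjective Mx x
        have : z ∈ (zpowers (QuotientGroup.mk' Mx z)).comap (QuotientGroup.mk' Mx) := mem_zpowers _
        rw [← hcon] at this
        exact (QuotientGroup.eq_one_iff z).2 this
    obtain ⟨z, rfl⟩ := QuotientGroup.mk'_surjective Mx y
    have hz : z ∈ (zpowers x).comap (QuotientGroup.mk' Mx) := by rw [htop]; trivial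
    obtain ⟨k, hk⟩ := mem_zpowers_iff.1 hz
    rw [← hk]
    exact (Commute.self_zpow x k).eq
  apply hMx.1
  rw [eq_top_iff]
  intro x _
  have h2 : W ⊔ ⁅J, J⁆ ≤ Mx.map J.subtype := by
    refine sup_le (fun w hw => ⟨⟨w, hW hw⟩, hle hw, rfl⟩) ?_
    rw [← map_subtype_commutator]
    exact map_mono hc
  obtain ⟨y, hy, e⟩ := h2 (h.ge x.2)
  rwa [show x = y from Subtype.ext e.symm]

/-- Transfer: a central Sylow element of the derived group lies in the derived Sylow subgroup. -/
theorem mem_derived_sylow {q : ℕ} [Fact q.Prime] {Q : Subgroup G} (hQ : IsSylowIn q Q J) {v : G}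
    (hv : v ∈ Q) (hd : v ∈ ⁅J, J⁆) (hc : ∀ g ∈ J, g * v = v * g) : v ∈ ⁅Q, Q⁆ := by
  set S := Q.subgroupOf J with hS
  have hvJ : v ∈ J := hQ.1 hv
  set z : J := ⟨v, hvJ⟩ with hz
  have key : ∀ (k : ℕ) (g₀ : J), g₀⁻¹ * z ^ k * g₀ ∈ S → g₀⁻¹ * z ^ k * g₀ = z ^ k := by
    intro k g₀ _
    have hcz : Commute g₀ z := Subtype.ext (hc g₀ g₀.2)
    rw [mul_assoc, ← (hcz.pow_right k).eq, inv_mul_cancel_left]
  have htr := MonoidHom.transfer_eq_pow (H := S) (Abelianization.of) z key
  have hker : z ∈ (MonoidHom.transfer (H := S) Abelianization.of).ker := by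
    refine Abelianization.commutator_subset_ker _ ?_
    have h1 : v ∈ (commutator J).map J.subtype := by rw [map_subtype_commutator]; exact hd
    obtain ⟨y, hy, e⟩ := h1
    rwa [show z = y from Subtype.ext e.symm]
  rw [MonoidHom.mem_ker.1 hker] at htr
  have hmem := (Abelianization.ker_of S).le (htr.symm : _ = (1 : Abelianization S))
  have hidx : (q ^ (Nat.card J).factorization q).Coprime S.index := by
    have hi : S.index = Nat.card J / q ^ (Nat.card J).factorization q := by
      have hcard := S.card_mul_index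
      rw [hS, Nat.card_congr (subgroupOfEquivOfLe hQ.1).toEquiv, hQ.2] at hcard
      exact (Nat.div_eq_of_eq_mul_right (pow_pos (Fact.out : q.Prime).pos _) hcard.symm).symm
    rw [hi]
    exact Nat.Coprime.pow_left _ (Nat.coprime_ordCompl (Fact.out : q.Prime) Nat.card_pos.ne')
  have hv' : v ∈ zpowers (v ^ S.index) :=
    mem_zpowers_pow_iff.2 ((hidx.coprime_dvd_left (by
      rw [← hQ.2]; exact Subgroup.orderOf_dvd_natCard Q hv)).symm)
  refine (zpowers_le.2 ?_) hv'
  have h3 : ((⟨z ^ S.index, MonoidHom.transfer_eq_pow_aux z key⟩ : S) : J).1 ∈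
      ((commutator S).map S.subtype).map J.subtype := ⟨_, ⟨_, hmem, rfl⟩, rfl⟩
  rw [map_subtype_commutator, map_commutator,
    show S.map J.subtype = Q from map_subgroupOf_eq_of_le hQ.1] at h3
  simpa [hz] using h3

end CfsgLib.Char.ElementwiseFixed
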