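import Mathlib
import Cfsg.Agent.Lib.Char.ElementwiseFixed.Tools

/-!
Elementwise fixed points of the commutator: a central minimal invariant normal subgroup.
-/

set_option autoImplicit false
set_option linter.unusedSectionVars false

namespace CfsgLib.Char.ElementwiseFixed

open Subgroup CfsgLib.Coprime
open scoped commutatorElement

universe u

variable {G : Type u} [Group G] [Finite G] {p : ℕ} {a : G} {J : Subgroup G}

theorem centre_inv (hJ : ∀ x ∈ J, a * x * a⁻¹ ∈ J) : Inv a J (J ⊓ centralizer (J : Set G)) where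
  le := inf_le_left
  norm g hg w hw := by
    rw [mem_centralizer_iff.1 hw.2 g hg, mul_inv_cancel_right]; exact hw
  inv w hw := ⟨hJ w hw.1, mem_centralizer_iff.2 fun g hg => by
    have h1 : a⁻¹ * g * a ∈ J :=
      (Subgroup.mem_normalizer_iff''.1 (zpowers_le_normalizer hJ (mem_zpowers a)) g).1 hg
    calc g * (a * w * a⁻¹) = a * ((a⁻¹ * g * a) * w) * a⁻¹ := by group
      _ = a * (w * (a⁻¹ * g * a)) * a⁻¹ := by rw [mem_centralizer_iff.1 hw.2 _ h1]
      _ = _ := by group⟩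

section

variable (M : Min p a J)
include M

theorem centre_fixed (h : ¬ Good a J) :
    J ⊓ centralizer (J : Set G) ≤ centralizer ({a} : Set G) := by
  set Z := J ⊓ centralizer (J : Set G) with hZ
  have hI := centre_inv M.op.inv
  have hc : IsMulCommutative Z := ⟨⟨fun x y => Subtype.ext
    ((mem_centralizer_iff.1 y.2.2 x x.2.1))⟩⟩
  have hop : Op p a Z := M.op.mono hI.le hI.inv
  by_cases h0 : ⁅Z, zpowers a⁆ = ⊥
  · rw [← hop.sup_eq, h0, bot_sup_eq]
    exact inf_le_right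
  exfalso
  refine h (M.good_of_bot (V := ⁅Z, zpowers a⁆) ?_ h0 ?_)
  · exact ⟨hop.commutator_le.trans hI.le, fun g hg w hw => by
      rw [mem_centralizer_iff.1 (hop.commutator_le hw).2 g hg, mul_inv_cancel_right]; exact hw,
      fun w hw => conj_commutator hI.inv hw⟩
  · refine le_bot_iff.1 ?_
    rw [← inf_eq_bot_of_comm hop hc]
    exact le_inf (inf_le_inf_right _ hop.commutator_le) inf_le_left

theorem not_central (h : ¬ Good a J) {z : G} (hz : z ∈ Kf a J)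
    (hzc : z ∈ centralizer (J : Set G)) : z = 1 := by
  by_contra hz1
  have hzJ : z ∈ J := Kf_le_J M.op hz
  have hI : Inv a J (zpowers z) := by
    refine ⟨zpowers_le.2 hzJ, fun g hg w hw => ?_, fun w hw => ?_⟩
    · obtain ⟨i, rfl⟩ := mem_zpowers_iff.1 hw
      rw [((show Commute g z from mem_centralizer_iff.1 hzc g hg).zpow_right i).eq,
        mul_inv_cancel_right]
      exact hw
    · obtain ⟨i, rfl⟩ := mem_zpowers_iff.1 hw
      rw [← conj_zpow, fixed_iff.1 (Kf_fixed hz)]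
      exact hw
  exact h (M.good_of_le hI (fun h' => hz1 (zpowers_eq_bot.1 h'))
    (inf_le_left.trans (zpowers_le.2 hz)))

/-- Commutators of class two vanish modulo the elementwise fixed points. -/
theorem class_two (hZC : J ⊓ centralizer (J : Set G) ≤ centralizer ({a} : Set G))
    (h2 : ⁅J, J⁆ ≤ centralizer (J : Set G)) : ⁅J, J⁆ ≤ Kf a J := by
  have hder : ⁅J, J⁆ ≤ J := (inv_derived M.op.inv).le
  have hbm : ∀ x ∈ J, ∀ y ∈ J, ⁅x, y⁆ ∈ J ⊓ centralizer (J : Set G) := fun x hx y hy =>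
    ⟨hder (commutator_mem_commutator hx hy), h2 (commutator_mem_commutator hx hy)⟩
  have hcen : ∀ x ∈ J, ∀ y ∈ J, ∀ g ∈ J, g * ⁅x, y⁆ = ⁅x, y⁆ * g := fun x hx y hy g hg =>
    mem_centralizer_iff.1 (hbm x hx y hy).2 g hg
  have hl : ∀ x ∈ J, ∀ y ∈ J, ∀ z ∈ J, ⁅x * y, z⁆ = ⁅x, z⁆ * ⁅y, z⁆ := by
    intro x hx y hy z hz
    have h1 : ⁅x * y, z⁆ = x * ⁅y, z⁆ * x⁻¹ * ⁅x, z⁆ := by
      simp only [commutatorElement_def]; group
    rw [h1, hcen y hy z hz x hx, mul_inv_cancel_right]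
    exact hcen x hx z hz _ (hbm y hy z hz).1
  have hr : ∀ x ∈ J, ∀ y ∈ J, ∀ z ∈ J, ⁅x, y * z⁆ = ⁅x, y⁆ * ⁅x, z⁆ := by
    intro x hx y hy z hz
    have h1 : ⁅x, y * z⁆ = ⁅x, y⁆ * (y * ⁅x, z⁆ * y⁻¹) := by
      simp only [commutatorElement_def]; group
    rw [h1, hcen x hx z hz y hy, mul_inv_cancel_right]
  have hinv : ∀ x ∈ J, ∀ y ∈ J, ⁅x, y⁻¹⁆ = (⁅x, y⁆)⁻¹ := by
    intro x hx y hy
    rw [eq_inv_iff_mul_eq_one, ← hr x hx _ (inv_mem hy) y hy, inv_mul_cancel,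
      commutatorElement_one_right]
  have hTJ : ∀ (i : ℕ), ∀ x ∈ J, a ^ i * x * (a ^ i)⁻¹ ∈ J := fun i x hx =>
    (Subgroup.mem_normalizer_iff.1 (M.op.norm (pow_mem (mem_zpowers a) i)) x).1 hx
  have hceJ : ∀ h ∈ J, ∀ i, ce a h i ∈ J := fun h hh i => mul_mem (inv_mem hh) (hTJ i h hh)
  have hE : ∀ g ∈ J, ⁅ce a g 1, ce a g 2⁆ ∈ Kf a J := fun g hg => by
    refine mem_Kf hg ?_ (hZC (hbm _ (hceJ g hg 1) _ (hceJ g hg 2)))
    rw [commutatorElement_def]
    exact mul_mem (mul_mem (mul_mem (subset_closure ⟨1, rfl⟩) (subset_closure ⟨2, rfl⟩))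
      (inv_mem (subset_closure ⟨1, rfl⟩))) (inv_mem (subset_closure ⟨2, rfl⟩))
  have hmod : ∀ h ∈ J, ∀ k ∈ J, ∀ i, ∃ z ∈ J ⊓ centralizer (J : Set G),
      ce a (h * k) i = z * (ce a h i * ce a k i) := by
    intro h hh k hk i
    refine ⟨⁅k⁻¹, ce a h i⁆, hbm _ (inv_mem hk) _ (hceJ h hh i), ?_⟩
    simp only [ce, commutatorElement_def]; group
  have hz : ∀ z ∈ J ⊓ centralizer (J : Set G), ∀ g ∈ J, ⁅z, g⁆ = 1 ∧ ⁅g, z⁆ = 1 := by
    intro z hz g hg
    have := mem_centralizer_iff.1 hz.2 g hg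
    exact ⟨commutatorElement_eq_one_iff_mul_comm.2 this.symm,
      commutatorElement_eq_one_iff_mul_comm.2 this⟩
  -- polarisation
  have hpol : ∀ h ∈ J, ∀ k ∈ J, ⁅ce a h 1, ce a k 2⁆ * ⁅ce a k 1, ce a h 2⁆ ∈ Kf a J := by
    intro h hh k hk
    obtain ⟨z1, hz1, e1⟩ := hmod h hh k hk 1
    obtain ⟨z2, hz2, e2⟩ := hmod h hh k hk 2
    have ha1 := hceJ h hh 1
    have hb1 := hceJ k hk 1
    have ha2 := hceJ h hh 2
    have hb2 := hceJ k hk 2
    have key := hE _ (mul_mem hh hk)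
    rw [e1, e2, hl _ hz1.1 _ (mul_mem ha1 hb1) _ (mul_mem hz2.1 (mul_mem ha2 hb2)),
      (hz z1 hz1 _ (mul_mem hz2.1 (mul_mem ha2 hb2))).1, one_mul,
      hr _ (mul_mem ha1 hb1) _ hz2.1 _ (mul_mem ha2 hb2), (hz z2 hz2 _ (mul_mem ha1 hb1)).2,
      one_mul, hl _ ha1 _ hb1 _ (mul_mem ha2 hb2), hr _ ha1 _ ha2 _ hb2, hr _ hb1 _ ha2 _ hb2] at key
    have h3 := mul_mem (mul_mem ((Kf a J).inv_mem (hE h hh)) key) ((Kf a J).inv_mem (hE k hk))
    convert h3 using 1
    group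
  -- rewriting the second component
  have hce2 : ∀ h, ce a h 2 = ce a h 1 * (a * ce a h 1 * a⁻¹) := fun h => by
    simp only [ce, pow_succ, pow_zero, one_mul]; group
  have hT : ∀ x ∈ J, a * x * a⁻¹ ∈ J := M.op.inv
  have hsym1 : ∀ h ∈ J, ∀ k ∈ J,
      ⁅ce a h 1, a * ce a k 1 * a⁻¹⁆ * ⁅ce a k 1, a * ce a h 1 * a⁻¹⁆ ∈ Kf a J := by
    intro h hh k hk
    have ha1 := hceJ h hh 1
    have hb1 := hceJ k hk 1
    have key := hpol h hh k hk
    rw [hce2, hce2, hr _ ha1 _ hb1 _ (hT _ hb1), hr _ hb1 _ ha1 _ (hT _ ha1)] at key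
    convert key using 1
    rw [← commutatorElement_inv (ce a h 1) (ce a k 1)]
    set c := ⁅ce a h 1, ce a k 1⁆
    set d := ⁅ce a h 1, a * ce a k 1 * a⁻¹⁆
    have hd : c * d = d * c := (hcen _ ha1 _ (hT _ hb1) c (hbm _ ha1 _ hb1).1)
    rw [hd]; group
  have hgen : ∀ {W : Subgroup G}, (∀ h ∈ J, ce a h 1 ∈ W) → J ≤ W := by
    intro W hW
    conv_lhs => rw [← M.full, commutator_eq_closure]
    refine (closure_le _).2 ?_
    rintro _ ⟨h, hh, i, rfl⟩
    induction i with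
    | zero => simp [ce]
    | succ i ih =>
      rw [SetLike.mem_coe, show ce a h (i + 1) = ce a h i * ce a (a ^ i * h * (a ^ i)⁻¹) 1 by
        simp only [ce, pow_succ, pow_zero, one_mul]; group]
      exact mul_mem ih (hW _ (hTJ i h hh))
  let b : G → G → G := fun x y => ⁅x, a * y * a⁻¹⁆ * ⁅y, a * x * a⁻¹⁆
  have hbl : ∀ x ∈ J, ∀ x' ∈ J, ∀ y ∈ J, b (x * x') y = b x y * b x' y := by
    intro x hx x' hx' y hy
    simp only [b]
    rw [hl x hx x' hx' _ (hT y hy), show a * (x * x') * a⁻¹ = (a * x * a⁻¹) * (a * x' * a⁻¹) by group,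
      hr y hy _ (hT x hx) _ (hT x' hx')]
    set P := ⁅x', a * y * a⁻¹⁆
    set Q := ⁅y, a * x * a⁻¹⁆
    have hPQ : Commute P Q := (hcen _ hy _ (hT x hx) P (hbm x' hx' _ (hT y hy)).1)
    calc ⁅x, a * y * a⁻¹⁆ * P * (Q * ⁅y, a * x' * a⁻¹⁆)
        = ⁅x, a * y * a⁻¹⁆ * (P * Q) * ⁅y, a * x' * a⁻¹⁆ := by group
      _ = ⁅x, a * y * a⁻¹⁆ * (Q * P) * ⁅y, a * x' * a⁻¹⁆ := by rw [hPQ.eq]
      _ = _ := by group
  have hb1 : ∀ y, b 1 y = 1 := fun y => by simp [b]
  have hbsymm : ∀ x ∈ J, ∀ y ∈ J, b x y = b y x := fun x hx y hy =>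
    hcen y hy _ (hT x hx) _ (hbm x hx _ (hT y hy)).1
  have hb_all : ∀ y ∈ J, (∀ h ∈ J, b (ce a h 1) y ∈ Kf a J) → ∀ x ∈ J, b x y ∈ Kf a J := by
    intro y hy hgy
    let W : Subgroup G :=
      { carrier := {x | x ∈ J ∧ b x y ∈ Kf a J}
        mul_mem' := fun {x x'} hx hx' => ⟨mul_mem hx.1 hx'.1, by
          rw [hbl x hx.1 x' hx'.1 y hy]; exact mul_mem hx.2 hx'.2⟩
        one_mem' := ⟨one_mem _, by rw [hb1]; exact one_mem _⟩
        inv_mem' := fun {x} hx => ⟨inv_mem hx.1, by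
          have h1 := hbl x⁻¹ (inv_mem hx.1) x hx.1 y hy
          rw [inv_mul_cancel, hb1] at h1
          rw [eq_inv_of_mul_eq_one_left h1.symm]; exact inv_mem hx.2⟩ }
    exact fun x hx => (hgen (W := W) (fun h hh => ⟨hceJ h hh 1, hgy h hh⟩) hx).2
  have hbK : ∀ x ∈ J, ∀ y ∈ J, b x y ∈ Kf a J := fun x hx y hy => by
    refine hb_all y hy (fun h hh => ?_) x hx
    rw [hbsymm _ (hceJ h hh 1) y hy]
    exact hb_all _ (hceJ h hh 1) (fun k hk => hsym1 k hk h hh) y hy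
  -- the alternating form is killed
  have h2y : ∀ x ∈ J, ∀ y ∈ J, ⁅x, ce a y 2⁆ ∈ Kf a J := by
    intro x hx y hy
    have h1 := hbK x hx (a * y * a⁻¹) (hT y hy)
    simp only [b] at h1
    have hfix : ⁅a * y * a⁻¹, a * x * a⁻¹⁆ = ⁅y, x⁆ := by
      rw [← show a * ⁅y, x⁆ * a⁻¹ = ⁅a * y * a⁻¹, a * x * a⁻¹⁆ by
        simp only [commutatorElement_def]; group]
      exact fixed_iff.1 (hZC (hbm y hy x hx))
    rw [hfix, ← commutatorElement_inv x y] at h1
    rw [ce, hr x hx _ (inv_mem hy) _ (hTJ 2 y hy), hinv x hx y hy,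
      show a ^ 2 * y * (a ^ 2)⁻¹ = a * (a * y * a⁻¹) * a⁻¹ by simp only [pow_succ, pow_zero, one_mul]; group]
    rwa [hcen x hx _ (hT _ (hT y hy)) _ (inv_mem (hbm x hx y hy).1)]
  refine commutator_le.2 fun x hx w hw => ?_
  let W : Subgroup G :=
    { carrier := {w | w ∈ J ∧ ⁅x, w⁆ ∈ Kf a J}
      mul_mem' := fun {u v} hu hv => ⟨mul_mem hu.1 hv.1, by
        rw [hr x hx u hu.1 v hv.1]; exact mul_mem hu.2 hv.2⟩
      one_mem' := ⟨one_mem _, by rw [commutatorElement_one_right]; exact one_mem _⟩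
      inv_mem' := fun {u} hu => ⟨inv_mem hu.1, by rw [hinv x hx u hu.1]; exact inv_mem hu.2⟩ }
  have heven : ∀ (j : ℕ), ∀ y ∈ J, ce a y (2 * j) ∈ W := by
    intro j
    induction j with
    | zero => intro y _; simp [ce]
    | succ j ih =>
      intro y hy
      rw [show ce a y (2 * (j + 1)) = ce a y (2 * j) * ce a (a ^ (2 * j) * y * (a ^ (2 * j))⁻¹) 2 by
        simp only [ce, Nat.mul_succ, pow_add]; group]
      exact mul_mem (ih y hy) ⟨hceJ _ (hTJ _ y hy) 2, h2y x hx _ (hTJ _ y hy)⟩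
  have hJW : J ≤ W := by
    conv_lhs => rw [← M.full, commutator_eq_closure]
    refine (closure_le _).2 ?_
    rintro _ ⟨h, hh, i, rfl⟩
    obtain ⟨m, hm⟩ : ∃ m, p + 1 = 2 * m := by
      obtain ⟨m, hm⟩ := M.op.prime.odd_of_ne_two M.op.odd
      exact ⟨m + 1, by omega⟩
    have hi : a ^ i = a ^ (2 * (m * i)) := by
      rw [← mul_assoc, ← hm, add_mul, one_mul, pow_add, pow_mul, M.op.pow, one_pow, one_mul]
    rw [SetLike.mem_coe, show ce a h i = ce a h (2 * (m * i)) by simp only [ce, hi]]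
    exact heven _ h hh
  exact (hJW hw).2

/-- The case of a `q`-group. -/
theorem good_of_pgroup {q : ℕ} [Fact q.Prime] (hJ : IsPGroup q J) (hab : ⁅J, J⁆ ≠ ⊥) : Good a J := by
  by_contra hbad
  have hn : Group.IsNilpotent J := hJ.isNilpotent
  have hZC := centre_fixed M hbad
  have hder := inv_derived (J := J) M.op.inv
  by_cases h2 : ⁅J, J⁆ ≤ centralizer (J : Set G)
  · obtain ⟨z, hz, hz1⟩ : ∃ z ∈ ⁅J, J⁆, z ≠ 1 := by
      by_contra h
      push_neg at h
      exact hab (le_bot_iff.1 fun z hz => mem_bot.2 (h z hz))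
    exact hz1 (not_central M hbad (class_two M hZC h2 hz) (h2 hz))
  obtain ⟨U, ⟨hU, hUle, hUc⟩, hUmin⟩ := (Set.toFinite
    {W : Subgroup G | Inv a J W ∧ W ≤ ⁅J, J⁆ ∧ ¬ W ≤ centralizer (J : Set G)}).exists_minimal
    ⟨_, hder, le_rfl, h2⟩
  have hUne : U ≠ ⊥ := fun h => hUc (h ▸ bot_le)
  have hUJ : ⁅U, J⁆ ≤ U := commutator_le.2 fun u hu g hg => by
    rw [commutatorElement_def, show u * g * u⁻¹ * g⁻¹ = u * (g * u⁻¹ * g⁻¹) by group]
    exact mul_mem hu (hU.norm g hg _ (inv_mem hu))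
  have hcent : ⁅U, J⁆ ≤ centralizer (J : Set G) := by
    by_contra h
    have hI : Inv a J ⁅U, J⁆ := ⟨hUJ.trans hU.le,
      fun g hg w hw => conj_comm_mem (hU.norm g hg)
        (fun u hu => mul_mem (mul_mem hg hu) (inv_mem hg)) hw,
      fun w hw => conj_comm_mem hU.inv M.op.inv hw⟩
    exact comm_ne_self hn hU.le hUne (le_antisymm hUJ (hUmin ⟨hI, hUJ.trans hUle, h⟩ hUJ))
  have hUZ : ∀ u ∈ U, ∀ g ∈ J, ⁅u, g⁆ ∈ J ⊓ centralizer (J : Set G) := fun u hu g hg =>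
    ⟨hU.le (hUJ (commutator_mem_commutator hu hg)), hcent (commutator_mem_commutator hu hg)⟩
  have hfixU : ∀ u ∈ U, u ∈ centralizer ({a} : Set G) → u ∈ centralizer (J : Set G) := by
    intro u hu hua
    let W : Subgroup G := centralizer ({u} : Set G)
    have hJW : J ≤ W := by
      conv_lhs => rw [← M.full, commutator_eq_closure]
      refine (closure_le _).2 ?_
      rintro _ ⟨h, hh, i, rfl⟩
      have hui : Commute u (a ^ i) :=
        (show Commute u a from mem_centralizer_singleton_iff.1 hua).pow_right i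
      have hz := hUZ u hu h hh
      have hzfix : a ^ i * ⁅u, h⁆ * (a ^ i)⁻¹ = ⁅u, h⁆ := by
        rw [mul_inv_eq_iff_eq_mul]
        exact ((show Commute ⁅u, h⁆ a from mem_centralizer_singleton_iff.1 (hZC hz)).pow_right i).symm.eq
      set k := a ^ i * h * (a ^ i)⁻¹ with hk
      have hkJ : k ∈ J := (Subgroup.mem_normalizer_iff.1 (M.op.norm (pow_mem (mem_zpowers a) i)) h).1 hh
      have huk : ⁅u, k⁆ = ⁅u, h⁆ := by
        conv_rhs => rw [← hzfix]
        have : a ^ i * ⁅u, h⁆ * (a ^ i)⁻¹ = ⁅a ^ i * u * (a ^ i)⁻¹, k⁆ := by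
          simp only [hk, commutatorElement_def]; group
        rw [this, ← hui.eq, mul_inv_cancel_right]
      have e : ⁅u, ce a h i⁆ = 1 := by
        have hcen := mem_centralizer_iff.1 hz.2 h⁻¹ (inv_mem hh)
        rw [show ce a h i = h⁻¹ * k from rfl,
          show ⁅u, h⁻¹ * k⁆ = h⁻¹ * (⁅u, h⁆)⁻¹ * ⁅u, k⁆ * h by simp only [commutatorElement_def]; group,
          huk, inv_mul_cancel_right, inv_mul_cancel]
      rw [SetLike.mem_coe, mem_centralizer_singleton_iff]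
      exact (commutatorElement_eq_one_iff_mul_comm.1 e).symm
    exact mem_centralizer_iff.2 fun g hg => mem_centralizer_singleton_iff.1 (hJW hg)
  set U0 := ⨆ W : {W : Subgroup G // W < J ∧ ∀ w ∈ W, a * w * a⁻¹ ∈ W}, (W : Subgroup G) with hU0
  by_cases htop : U0 = J
  · refine hUc fun u hu => ?_
    have hle : U0 ≤ centralizer ({u} : Set G) := by
      refine iSup_le fun W w hw => ?_
      obtain ⟨W, hWlt, hWi⟩ := W
      rw [mem_centralizer_singleton_iff]
      symm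
      rw [← commutatorElement_eq_one_iff_mul_comm]
      refine not_central M hbad ?_ (hUZ u hu w (hWlt.le hw)).2
      -- the product with `U` is proper
      have hlt : U ⊔ W < J := by
        refine lt_of_le_of_ne (sup_le hU.le hWlt.le) fun h => hWlt.ne ?_
        refine eq_of_sup_derived hn hWlt.le (le_antisymm (sup_le hWlt.le hder.le) ?_)
        exact h.ge.trans (sup_le (hUle.trans le_sup_right) le_sup_left)
      have hUWi : ∀ x ∈ U ⊔ W, a * x * a⁻¹ ∈ U ⊔ W := by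
        intro x hx
        have hle' : U ⊔ W ≤ (U ⊔ W).comap (MulAut.conj a).toMonoidHom :=
          sup_le (fun y hy => mem_sup_left (hU.inv y hy)) (fun y hy => mem_sup_right (hWi y hy))
        exact hle' hx
      obtain ⟨y, hy, c, hc, rfl⟩ := exists_decomp (M.op.mono hU.le hU.inv) hu
      have hcJ := hfixU c hc.1 hc.2
      have hcw : ⁅y * c, w⁆ = ⁅y, w⁆ := by
        have h1 : Commute c w := (mem_centralizer_iff.1 hcJ w (hWlt.le hw)).symm
        simp only [commutatorElement_def, mul_inv_rev]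
        rw [show y * c * w * (c⁻¹ * y⁻¹) * w⁻¹ = y * (c * w) * c⁻¹ * y⁻¹ * w⁻¹ by group, h1.eq]
        group
      have hfix : ⁅y * c, w⁆ ∈ centralizer ({a} : Set G) := hZC (hUZ _ hu w (hWlt.le hw))
      rw [hcw] at hfix ⊢
      refine M.sub _ hlt hUWi ⟨?_, hfix⟩
      have hy' : y ∈ ⁅U ⊔ W, zpowers a⁆ := commutator_mono le_sup_left le_rfl hy
      rw [commutatorElement_def, show y * w * y⁻¹ * w⁻¹ = y * (w * y⁻¹ * w⁻¹) by group]
      refine (⁅U ⊔ W, zpowers a⁆ : Subgroup G).mul_mem hy' ?_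
      exact (Subgroup.mem_normalizer_iff.1 (normalizer_commutator_ge_left _ _
        (mem_sup_right hw : w ∈ U ⊔ W)) _).1 (inv_mem hy')
    exact mem_centralizer_iff.2 fun g hg => mem_centralizer_singleton_iff.1 (hle (htop.ge hg))
  · have hle : U0 ≤ J := iSup_le fun W => W.2.1.le
    have hne : J ≠ ⊥ := fun h => hab (le_bot_iff.1 (hder.le.trans h.le))
    have hJ'0 : ⁅J, J⁆ ≤ U0 := le_iSup_of_le (ι := {W : Subgroup G // W < J ∧ ∀ w ∈ W, a * w * a⁻¹ ∈ W})
      (f := fun W => (W : Subgroup G)) ⟨_, derived_lt M.op.solv hne, hder.inv⟩ le_rfl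
    obtain ⟨h, hh, hh0⟩ := SetLike.exists_of_lt (lt_of_le_of_ne hle htop)
    have hWJ : Wg a h ≤ J := (Wg_le_commutator hh).trans M.op.commutator_le
    by_cases hW : Wg a h = J
    · exact hbad fun x hx => mem_Kf hh (hW.ge hx.1) hx.2
    have hW0 : Wg a h ≤ U0 := le_iSup_of_le (ι := {W : Subgroup G // W < J ∧ ∀ w ∈ W, a * w * a⁻¹ ∈ W})
      (f := fun W => (W : Subgroup G)) ⟨_, lt_of_le_of_ne hWJ hW, fun _ => Wg_conj⟩ le_rfl
    have hU0i : ∀ x ∈ U0, a * x * a⁻¹ ∈ U0 := by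
      intro x hx
      have hle' : U0 ≤ U0.comap (MulAut.conj a).toMonoidHom := iSup_le fun W y hy =>
        mem_iSup_of_mem W (W.2.2 y hy)
      exact hle' hx
    have hU0n : ∀ g ∈ J, ∀ x ∈ U0, g * x * g⁻¹ ∈ U0 := fun g hg x hx => by
      rw [show g * x * g⁻¹ = ⁅g, x⁆ * x by simp only [commutatorElement_def]; group]
      exact mul_mem (hJ'0 (commutator_mem_commutator hg (hle hx))) hx
    have hnU0 : J ≤ normalizer (U0 : Set G) := fun g hg => Subgroup.mem_normalizer_iff.2 fun x =>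
      ⟨hU0n g hg x, fun h' => by simpa [mul_assoc] using hU0n g⁻¹ (inv_mem hg) _ h'⟩
    obtain ⟨n, hn', hnf⟩ := exists_fixed_in_coset (A := zpowers a) (N := U0)
      (zpowers_le_normalizer hU0i) (M.op.cop' hle) (Or.inl Op.solvA) (k := h) (hnU0 hh) (by
        intro b hb
        obtain ⟨i, rfl⟩ := ((IsOfFinOrder.mem_powers_iff_mem_zpowers (isOfFinOrder_of_finite a)).2
          hb : b ∈ Submonoid.powers a)
        have h1 : ce a h i ∈ U0 := hW0 (subset_closure ⟨i, rfl⟩)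
        have := hU0n h hh _ h1
        convert this using 1
        simp only [ce]; group)
    rw [centralizer_zpowers] at hnf
    have h1 := hJ'0 (fixed_le_derived M.op M.full ⟨mul_mem hh (hle hn'), hnf⟩)
    exact hh0 (by simpa using mul_mem h1 (inv_mem hn'))

/-- The central case. -/
theorem good_of_central {V : Subgroup G} {q : ℕ} (hq : q.Prime) (hV : Inv a J V) (hne : V ≠ ⊥)
    (hexp : ∀ v ∈ V, v ^ q = 1) (hmin : ∀ W : Subgroup G, Inv a J W → W ≤ V → W ≠ ⊥ → W = V)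
    (hcent : V ≤ centralizer (J : Set G)) : Good a J := by
  haveI := Fact.mk hq
  by_contra hbad
  have hC : V ⊓ centralizer ({a} : Set G) ≠ ⊥ := fun h => hbad (M.good_of_bot hV hne h)
  have hVC : V ≤ centralizer ({a} : Set G) := by
    have hI : Inv a J (V ⊓ centralizer ({a} : Set G)) := ⟨inf_le_left.trans hV.le,
      fun g hg w hw => by
        rw [mem_centralizer_iff.1 (hcent hw.1) g hg, mul_inv_cancel_right]; exact hw,
      fun w hw => by rw [fixed_iff.1 hw.2]; exact hw⟩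
    rw [← hmin _ hI inf_le_left hC]
    exact inf_le_right
  have hVd : V ≤ ⁅J, J⁆ := fun v hv => fixed_le_derived M.op M.full ⟨hV.le hv, hVC hv⟩
  obtain ⟨Q0, hQ0, hVQ, hQA⟩ := le_invariant_sylow M.op.norm (M.op.cop' le_rfl) (Or.inl Op.solvA)
    (p := q) hV.le (isPGroup_of_exp hexp) (zpowers_le_normalizer hV.inv)
  have hQi : ∀ x ∈ Q0, a * x * a⁻¹ ∈ Q0 := fun x hx =>
    (Subgroup.mem_normalizer_iff.1 (hQA (mem_zpowers a)) x).1 hx
  by_cases hQJ : Q0 = J
  · refine hbad (good_of_pgroup M (hQJ ▸ hQ0.isPGroup) fun h => hne (le_bot_iff.1 ?_))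
    rw [← h]; exact hVd
  have hlt : Q0 < J := lt_of_le_of_ne hQ0.1 hQJ
  obtain ⟨v, hv, hv1⟩ : ∃ v ∈ V, v ≠ 1 := by
    by_contra h
    push_neg at h
    exact hne (le_bot_iff.1 fun z hz => mem_bot.2 (h z hz))
  refine hv1 (not_central M hbad ?_ (hcent hv))
  have hop := M.op.mono hQ0.1 hQi
  set D := ⁅Q0, zpowers a⁆ with hD
  set Cc := ⁅Q0 ⊓ centralizer ({a} : Set G), Q0 ⊓ centralizer ({a} : Set G)⁆ with hCc
  have hn : Q0 ≤ normalizer (D : Set G) := normalizer_commutator_ge_left _ _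
  have hle : ⁅Q0, Q0⁆ ≤ D ⊔ Cc := by
    refine commutator_le.2 fun x hx x' hx' => ?_
    obtain ⟨y, hy, c, hc, rfl⟩ := exists_decomp hop hx
    obtain ⟨y', hy', c', hc', rfl⟩ := exists_decomp hop hx'
    rw [show ⁅y * c, y' * c'⁆ = y * (c * y' * c⁻¹) * ⁅c, c'⁆ * (c' * y⁻¹ * c'⁻¹) * y'⁻¹ by
      simp only [commutatorElement_def]; group]
    refine mul_mem (mul_mem (mul_mem (mul_mem (mem_sup_left hy) (mem_sup_left ?_))
      (mem_sup_right (commutator_mem_commutator hc hc'))) (mem_sup_left ?_)) (mem_sup_left (inv_mem hy'))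
    · exact (Subgroup.mem_normalizer_iff.1 (hn hc.1) y').1 hy'
    · exact (Subgroup.mem_normalizer_iff.1 (hn hc'.1) _).1 (inv_mem hy)
  have hCK : Cc ≤ Kf a J := by
    refine commutator_le.2 fun c hc c' hc' => ?_
    obtain ⟨k, hk, w, hw, rfl⟩ := M.fixed_of_quot hV hne (hQ0.1 hc.1) hc.2
    obtain ⟨k', hk', w', hw', rfl⟩ := M.fixed_of_quot hV hne (hQ0.1 hc'.1) hc'.2
    have hkJ := Kf_le_J M.op hk
    have hk'J := Kf_le_J M.op hk'
    have e1 : Commute w k' := (mem_centralizer_iff.1 (hcent hw.1) k' hk'J).symm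
    have e2 : Commute w w' := (mem_centralizer_iff.1 (hcent hw.1) w' (hV.le hw'.1)).symm
    have e3 : Commute k w' := mem_centralizer_iff.1 (hcent hw'.1) k hkJ
    have e4 : Commute k' w' := mem_centralizer_iff.1 (hcent hw'.1) k' hk'J
    have : ⁅k * w, k' * w'⁆ = ⁅k, k'⁆ := by
      simp only [commutatorElement_def, mul_inv_rev]
      calc k * w * (k' * w') * (w⁻¹ * k⁻¹) * (w'⁻¹ * k'⁻¹)
          = k * (w * (k' * w')) * w⁻¹ * k⁻¹ * (w'⁻¹ * k'⁻¹) := by group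
        _ = k * k' * (w' * k⁻¹) * (w'⁻¹ * k'⁻¹) := by rw [(e1.mul_right e2).eq]; group
        _ = k * k' * (k⁻¹ * w') * (w'⁻¹ * k'⁻¹) := by rw [e3.inv_left.eq]
        _ = _ := by group
    rw [this, commutatorElement_def]
    exact mul_mem (mul_mem (mul_mem hk hk') (inv_mem hk)) (inv_mem hk')
  have hvd := mem_derived_sylow hQ0 (hVQ hv) (hVd hv)
    (fun g hg => mem_centralizer_iff.1 (hcent hv) g hg)
  have hnC : Cc ≤ normalizer (D : Set G) := by
    refine le_trans ?_ hn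
    exact commutator_le.2 fun x hx y hy => by
      rw [commutatorElement_def]
      exact mul_mem (mul_mem (mul_mem hx.1 hy.1) (inv_mem hx.1)) (inv_mem hy.1)
  obtain ⟨y, hy, z, hz, rfl⟩ := mem_sup_exists hnC (hle hvd)
  have hyC : y ∈ centralizer ({a} : Set G) := by
    have := (centralizer ({a} : Set G)).mul_mem (hVC hv)
      ((centralizer ({a} : Set G)).inv_mem (Kf_fixed (hCK hz)))
    simpa using this
  exact mul_mem (M.sub Q0 hlt hQi ⟨hy, hyC⟩) (hCK hz)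

end

end CfsgLib.Char.ElementwiseFixed
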