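import Mathlib
import Cfsg.Agent.Lib.Char.ElementwiseFixed.Step
import Cfsg.Agent.Lib.Coprime.Solvable
import Cfsg.Agent.Lib.Char.FrobeniusFormula

/-!
Elementwise fixed points of the commutator: a minimal invariant normal subgroup moved by the group.
-/

set_option autoImplicit false
set_option linter.unusedSectionVars false

namespace CfsgLib.Char.ElementwiseFixed

open Subgroup CfsgLib.Coprime
open scoped commutatorElement

universe u

variable {G : Type u} [Group G] [Finite G] {p : ℕ} {a : G} {J V : Subgroup G}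

theorem card_sup_disjoint {N W : Subgroup G} (h : W ≤ normalizer (N : Set G)) (hd : Disjoint N W) :
    Nat.card ↥(N ⊔ W) = Nat.card N * Nat.card W := by
  rw [← Nat.card_prod]
  refine (Nat.card_eq_of_bijective (fun x : N × W =>
    (⟨x.1 * x.2, mul_mem_sup x.1.2 x.2.2⟩ : ↥(N ⊔ W))) ⟨?_, ?_⟩).symm
  · intro x y hxy
    exact Subgroup.mul_injective_of_disjoint hd (congrArg Subtype.val hxy)
  · rintro ⟨x, hx⟩
    obtain ⟨n, hn, k, hk, e⟩ := mem_sup_exists h hx
    exact ⟨(⟨n, hn⟩, ⟨k, hk⟩), Subtype.ext e⟩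

section

variable (M : Min p a J) (hV : Inv a J V) (hc : IsMulCommutative V)
include M hV hc

theorem commV {x y : G} (hx : x ∈ V) (hy : y ∈ V) : x * y = y * x :=
  congrArg Subtype.val (hc.is_comm.comm (⟨x, hx⟩ : V) ⟨y, hy⟩)

theorem comm_mem_V {v g : G} (hv : v ∈ V) (hg : g ∈ J) : ⁅v, g⁆ ∈ V := by
  rw [commutatorElement_def, show v * g * v⁻¹ * g⁻¹ = v * (g * v⁻¹ * g⁻¹) by group]
  exact mul_mem hv (hV.norm g hg _ (inv_mem hv))

/-- The target. -/
def Tg (a : G) (J V : Subgroup G) : Subgroup G := ⁅V, zpowers a⁆ ⊔ (Kf a J ⊓ V)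

theorem Tg_le : Tg a J V ≤ V :=
  sup_le (M.op.mono hV.le hV.inv).commutator_le inf_le_right

theorem good_of_Tg (hne : V ≠ ⊥) (h : V ≤ Tg a J V) : Good a J := by
  refine M.good_of_le hV hne ?_
  rintro v ⟨hv, hva⟩
  have hn : Kf a J ⊓ V ≤ normalizer ((⁅V, zpowers a⁆ : Subgroup G) : Set G) :=
    inf_le_right.trans (normalizer_commutator_ge_left _ _)
  obtain ⟨x, hx, k, hk, e⟩ := mem_sup_exists hn (h hv)
  have hxC : x ∈ centralizer ({a} : Set G) := by
    rw [show x = v * k⁻¹ by rw [← e]; group]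
    exact (centralizer ({a} : Set G)).mul_mem hva ((centralizer ({a} : Set G)).inv_mem (Kf_fixed hk.1))
  have hop := M.op.mono hV.le hV.inv
  have hb := inf_eq_bot_of_comm hop hc
  have hxV : x ∈ V := hop.commutator_le hx
  have hx1 : x = 1 := by
    rw [← mem_bot, ← hb]
    exact ⟨⟨hxV, hxC⟩, hx⟩
  rw [← e, hx1, one_mul]
  exact hk.1

/-- The elements whose commutators with `V` lie in the target. -/
def S : Subgroup G where
  carrier := {g | g ∈ J ∧ ∀ v ∈ V, ⁅v, g⁆ ∈ Tg a J V}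
  mul_mem' := by
    rintro g h ⟨hg, hg'⟩ ⟨hh, hh'⟩
    refine ⟨mul_mem hg hh, fun v hv => ?_⟩
    have hw := hh' v hv
    have hwV := comm_mem_V M hV hc hv hh
    rw [show ⁅v, g * h⁆ = ⁅v, g⁆ * ⁅⁅v, h⁆, g⁆⁻¹ * ⁅v, h⁆ by
      simp only [commutatorElement_def]; group]
    exact mul_mem (mul_mem (hg' v hv) (inv_mem (hg' _ hwV))) hw
  one_mem' := ⟨one_mem _, fun v _ => by simp⟩
  inv_mem' := by
    rintro g ⟨hg, hg'⟩
    refine ⟨inv_mem hg, fun v hv => ?_⟩
    have hw : g⁻¹ * v⁻¹ * g ∈ V := by simpa using hV.norm g⁻¹ (inv_mem hg) _ (inv_mem hv)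
    have e : ⁅v, g⁻¹⁆ = ⁅g⁻¹ * v⁻¹ * g, g⁆ := by
      have hcm := commV M hV hc hv hw
      calc ⁅v, g⁻¹⁆ = v * (g⁻¹ * v⁻¹ * g) := by simp only [commutatorElement_def]; group
        _ = (g⁻¹ * v⁻¹ * g) * v := hcm
        _ = _ := by simp only [commutatorElement_def]; group
    rw [e]
    exact hg' _ hw

theorem fixed_mem_S (hne : V ≠ ⊥) {g : G} (hg : g ∈ J) (hga : g ∈ centralizer ({a} : Set G)) :
    g ∈ S M hV hc := by
  refine ⟨hg, fun v hv => ?_⟩
  have hop := M.op.mono hV.le hV.inv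
  obtain ⟨x, hx, c, ⟨hcV, hca⟩, e⟩ := exists_decomp hop hv
  have hxV := hop.commutator_le hx
  have h1 : ⁅x, g⁆ ∈ ⁅V, zpowers a⁆ := by
    rw [commutatorElement_def, show x * g * x⁻¹ * g⁻¹ = x * (g * x⁻¹ * g⁻¹) by group]
    refine mul_mem hx (conj_comm_mem (hV.norm g hg) (fun b hb => ?_) (inv_mem hx))
    have : g * b * g⁻¹ = b := by
      rw [mul_inv_eq_iff_eq_mul]
      obtain ⟨i, rfl⟩ := mem_zpowers_iff.1 hb
      exact ((show Commute g a from mem_centralizer_singleton_iff.1 hga).zpow_right i).eq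
    rw [this]; exact hb
  have h2 : ⁅c, g⁆ ∈ Kf a J ⊓ V := by
    refine ⟨?_, comm_mem_V M hV hc hcV hg⟩
    obtain ⟨k, hk, w, hw, e'⟩ := M.fixed_of_quot hV hne hg hga
    have hcw := commV M hV hc hcV hw.1
    rw [e', show ⁅c, k * w⁆ = (c * k * c⁻¹) * (c * w * c⁻¹ * w⁻¹) * k⁻¹ by
      simp only [commutatorElement_def]; group, hcw, mul_inv_cancel_right, mul_inv_cancel, mul_one]
    exact (Kf a J).mul_mem (conj_Kf (hV.le hcV) hca hk) ((Kf a J).inv_mem hk)
  have h3 : ⁅v, g⁆ = x * ⁅c, g⁆ * x⁻¹ * ⁅x, g⁆ := by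
    rw [← e]; simp only [commutatorElement_def]; group
  rw [h3, commV M hV hc hxV h2.2, mul_inv_cancel_right]
  exact mul_mem (mem_sup_right h2) (mem_sup_left h1)

theorem invariant_mem_S (hne : V ≠ ⊥) {W : Subgroup G} (hW : W ≤ J)
    (hWi : ∀ w ∈ W, a * w * a⁻¹ ∈ W) (hlt : V ⊔ W < J) : W ≤ S M hV hc := by
  have hop := M.op.mono hW hWi
  conv_lhs => rw [← hop.sup_eq]
  refine sup_le (fun g hg => ⟨hW (hop.commutator_le hg), fun v hv => ?_⟩)
    fun g hg => fixed_mem_S M hV hc hne (hW hg.1) hg.2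
  have hU : ∀ u ∈ V ⊔ W, a * u * a⁻¹ ∈ V ⊔ W := by
    intro u hu
    have hle : V ⊔ W ≤ (V ⊔ W).comap (MulAut.conj a).toMonoidHom :=
      sup_le (fun x hx => mem_sup_left (hV.inv x hx)) (fun x hx => mem_sup_right (hWi x hx))
    exact hle hu
  have hopU := M.op.mono hlt.le hU
  set E := ⁅V ⊔ W, zpowers a⁆ ⊓ V with hE
  have hgU : g ∈ ⁅V ⊔ W, zpowers a⁆ := commutator_mono le_sup_right le_rfl hg
  have hmem : ⁅v, g⁆ ∈ E := by
    refine ⟨?_, comm_mem_V M hV hc hv (hW (hop.commutator_le hg))⟩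
    rw [commutatorElement_def]
    refine (⁅V ⊔ W, zpowers a⁆ : Subgroup G).mul_mem ?_ ((⁅V ⊔ W, zpowers a⁆ : Subgroup G).inv_mem hgU)
    exact (Subgroup.mem_normalizer_iff.1 (normalizer_commutator_ge_left _ _
      (mem_sup_left hv : v ∈ V ⊔ W)) g).1 hgU
  have hEi : ∀ e ∈ E, a * e * a⁻¹ ∈ E := fun e he => ⟨conj_commutator hU he.1, hV.inv e he.2⟩
  obtain ⟨x, hx, c, hc', e⟩ := exists_decomp (M.op.mono (inf_le_right.trans hV.le) hEi) hmem
  rw [← e]
  exact mul_mem (mem_sup_left (commutator_mono inf_le_right le_rfl hx))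
    (mem_sup_right ⟨M.sub _ hlt hU ⟨hc'.1.1, hc'.2⟩, hc'.1.2⟩)

theorem good_of_commutator_sup (hne : V ≠ ⊥) (hfull : ⁅V, J⁆ = V) (h : J ≤ S M hV hc) :
    Good a J :=
  good_of_Tg M hV hc hne (by
    conv_lhs => rw [← hfull]
    exact commutator_le.2 fun v hv g hg => (h hg).2 v hv)

/-- The minimal invariant normal subgroup is moved. -/
theorem good_of_moved {q : ℕ} (hq : q.Prime) (hne : V ≠ ⊥) (hexp : ∀ v ∈ V, v ^ q = 1)
    (hmin : ∀ W : Subgroup G, Inv a J W → W ≤ V → W ≠ ⊥ → W = V) (hfull : ⁅V, J⁆ = V) :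
    Good a J := by
  haveI := Fact.mk hq
  by_cases hall : ∀ (r : ℕ) (P : Subgroup G), r.Prime → IsSylowIn r P J →
      (∀ w ∈ P, a * w * a⁻¹ ∈ P) → V ⊔ P < J
  · refine good_of_commutator_sup M hV hc hne hfull ?_
    have key : Nat.card J ∣ Nat.card ↥(S M hV hc) := by
      rw [← Nat.factorization_le_iff_dvd Nat.card_pos.ne' Nat.card_pos.ne']
      intro r
      by_cases hr : r.Prime
      · haveI := Fact.mk hr
        obtain ⟨P, hP, hPA⟩ := exists_invariant_sylow M.op.norm (M.op.cop' le_rfl) (Or.inl Op.solvA) r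
        have hPi : ∀ w ∈ P, a * w * a⁻¹ ∈ P := fun w hw =>
          (Subgroup.mem_normalizer_iff.1 (hPA (mem_zpowers a)) w).1 hw
        have h1 := Subgroup.card_dvd_of_le
          (invariant_mem_S M hV hc hne hP.1 hPi (hall r P hr hP hPi))
        rw [hP.2] at h1
        exact (hr.pow_dvd_iff_le_factorization Nat.card_pos.ne').1 h1
      · simp [Nat.factorization_eq_zero_of_not_prime _ hr]
    have hle : S M hV hc ≤ J := fun g hg => hg.1
    exact (Subgroup.eq_of_le_of_card_ge hle (Nat.le_of_dvd Nat.card_pos key)).ge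
  push_neg at hall
  obtain ⟨r, P, hr, hP, hPi, hnlt⟩ := hall
  haveI := Fact.mk hr
  have hVP : V ⊔ P = J := by
    by_contra h
    exact hnlt (lt_of_le_of_ne (sup_le hV.le hP.1) h)
  have hPn : P ≤ normalizer (V : Set G) := fun g hg => Subgroup.mem_normalizer_iff.2 fun w =>
    ⟨hV.norm g (hP.1 hg) w, fun h => by
      simpa [mul_assoc] using hV.norm g⁻¹ (inv_mem (hP.1 hg)) _ h⟩
  have hbot : ⁅V, J⁆ ≠ ⊥ := by rw [hfull]; exact hne
  have hrq : r ≠ q := by
    rintro rfl
    have hJ : IsPGroup r J := by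
      rw [← hVP]
      exact (isPGroup_of_exp hexp).to_sup_of_normal_left' hP.isPGroup hPn
    -- the group centralises a part of `V`
    haveI : (V.subgroupOf J).Normal := ⟨fun n hn g => hV.norm g g.2 n hn⟩
    obtain ⟨x, hxne, hx⟩ : ∃ x : J, x ≠ 1 ∧ x ∈ V.subgroupOf J ⊓ center J := by
      by_contra hcon
      push_neg at hcon
      haveI : Group.IsNilpotent J := hJ.isNilpotent
      have hne' : V.subgroupOf J ≠ ⊥ := fun h => hne (le_bot_iff.1 fun v hv => by
        have h' : (⟨v, hV.le hv⟩ : J) ∈ V.subgroupOf J := hv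
        rw [h, mem_bot] at h'
        exact mem_bot.2 (congrArg Subtype.val h'))
      refine CfsgLib.Coprime.nilpotent_inf_center_ne_bot (V.subgroupOf J) hne' ?_
      exact le_bot_iff.1 fun x hx => mem_bot.2 (by_contra fun h => hcon x h hx)
    have hW : Inv a J (V ⊓ centralizer (J : Set G)) := by
      refine ⟨inf_le_left.trans hV.le, fun g hg w hw => ⟨hV.norm g hg w hw.1, ?_⟩,
        fun w hw => ⟨hV.inv w hw.1, ?_⟩⟩
      · rw [mem_centralizer_iff.1 hw.2 g hg, mul_inv_cancel_right]; exact hw.2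
      · refine mem_centralizer_iff.2 fun g hg => ?_
        have h1 : a⁻¹ * g * a ∈ J := by
          have := (Subgroup.mem_normalizer_iff''.1 (M.op.norm (mem_zpowers a)) g).1 hg
          exact this
        have h2 := mem_centralizer_iff.1 hw.2 _ h1
        calc g * (a * w * a⁻¹) = a * ((a⁻¹ * g * a) * w) * a⁻¹ := by group
          _ = a * (w * (a⁻¹ * g * a)) * a⁻¹ := by rw [h2]
          _ = _ := by group
    have hWV := hmin _ hW inf_le_left fun h => hxne (by
      have : (x : G) ∈ V ⊓ centralizer (J : Set G) :=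
        ⟨hx.1, mem_centralizer_iff.2 fun g hg => congrArg Subtype.val (mem_center_iff.1 hx.2 ⟨g, hg⟩)⟩
      rw [h, mem_bot] at this
      exact Subtype.ext this)
    refine hbot (le_bot_iff.1 (commutator_le.2 fun v hv g hg => ?_))
    rw [mem_bot, commutatorElement_eq_one_iff_mul_comm]
    exact ((mem_centralizer_iff.1 ((hWV.ge hv) : v ∈ V ⊓ centralizer (J : Set G)).2) g hg).symm
  have hcopVP : (Nat.card V).Coprime (Nat.card P) := by
    obtain ⟨n, hn⟩ := IsPGroup.iff_card.1 (isPGroup_of_exp hexp)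
    rw [hn, hP.2]
    exact Nat.Coprime.pow _ _ ((Nat.coprime_primes hq hr).2 (Ne.symm hrq))
  have hdisj : Disjoint V P := Subgroup.disjoint_of_coprime_natCard hcopVP
  have hsubP : ∀ W : Subgroup G, W ≤ P → W ≠ ⊥ → W ≠ P → (∀ w ∈ W, a * w * a⁻¹ ∈ W) →
      (∀ g ∈ P, ∀ w ∈ W, g * w * g⁻¹ ∈ W) → Good a J := by
    intro W hW hW0 hWP hWi hWn
    have hlt : V ⊔ W < J := by
      refine lt_of_le_of_ne (sup_le hV.le (hW.trans hP.1)) fun h => hWP (le_antisymm hW ?_)
      intro x hx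
      obtain ⟨v, hv, w, hw, e⟩ := mem_sup_exists (hW.trans hPn) (h.ge (hP.1 hx) : x ∈ V ⊔ W)
      have hv1 : v = 1 := by
        have : v ∈ V ⊓ P := ⟨hv, by
          rw [show v = x * w⁻¹ by rw [← e]; group]; exact P.mul_mem hx (P.inv_mem (hW hw))⟩
        rwa [disjoint_iff.1 hdisj, mem_bot] at this
      rw [← e, hv1, one_mul]; exact hw
    have hT : Inv a J ⁅V, W⁆ := by
      have hle : ⁅V, W⁆ ≤ V := commutator_le.2 fun v hv w hw =>
        comm_mem_V M hV hc hv (hP.1 (hW hw))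
      refine ⟨hle.trans hV.le, fun g hg w hw => ?_, fun w hw => conj_comm_mem hV.inv hWi hw⟩
      obtain ⟨v, hv, y, hy, rfl⟩ := mem_sup_exists hPn (hVP.ge hg : g ∈ V ⊔ P)
      have h1 := conj_comm_mem (hV.norm y (hP.1 hy)) (hWn y hy) hw
      rw [show v * y * w * (v * y)⁻¹ = v * (y * w * y⁻¹) * v⁻¹ by group,
        commV M hV hc hv (hle h1), mul_inv_cancel_right]
      exact h1
    by_cases hT0 : ⁅V, W⁆ = ⊥
    · have hWV : ∀ v ∈ V, ∀ w ∈ W, v * w = w * v := fun v hv w hw => by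
        rw [← commutatorElement_eq_one_iff_mul_comm, ← mem_bot, ← hT0]
        exact commutator_mem_commutator hv hw
      have hWI : Inv a J W := by
        refine ⟨hW.trans hP.1, fun g hg w hw => ?_, hWi⟩
        obtain ⟨v, hv, y, hy, rfl⟩ := mem_sup_exists hPn (hVP.ge hg : g ∈ V ⊔ P)
        rw [show v * y * w * (v * y)⁻¹ = v * (y * w * y⁻¹) * v⁻¹ by group,
          hWV v hv _ (hWn y hy w hw), mul_inv_cancel_right]
        exact hWn y hy w hw
      exact M.good_of_coprime hV hne hWI hW0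
        (hcopVP.coprime_dvd_right (card_dvd_of_le hW))
    · have hTV : ⁅V, W⁆ = V := hmin _ hT (commutator_le.2 fun v hv w hw =>
        comm_mem_V M hV hc hv (hP.1 (hW hw))) hT0
      refine good_of_Tg M hV hc hne ?_
      conv_lhs => rw [← hTV]
      exact commutator_le.2 fun v hv w hw =>
        (invariant_mem_S M hV hc hne (hW.trans hP.1) hWi hlt hw).2 v hv
  by_contra hgood
  have hP0 : P ≠ ⊥ := by
    rintro rfl
    rw [sup_bot_eq] at hVP
    refine hbot (le_bot_iff.1 (commutator_le.2 fun v hv g hg => ?_))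
    rw [mem_bot, commutatorElement_eq_one_iff_mul_comm]
    exact commV M hV hc hv (hVP.ge hg)
  have hPab : ∀ x ∈ P, ∀ y ∈ P, x * y = y * x := by
    intro x hx y hy
    rw [← commutatorElement_eq_one_iff_mul_comm, ← mem_bot]
    by_cases h0 : ⁅P, P⁆ = ⊥
    · rw [← h0]; exact commutator_mem_commutator hx hy
    exfalso
    have hle : ⁅P, P⁆ ≤ P := commutator_le.2 fun u hu v hv => by
      rw [commutatorElement_def]
      exact mul_mem (mul_mem (mul_mem hu hv) (inv_mem hu)) (inv_mem hv)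
    refine hgood (hsubP _ hle h0 (fun h => ?_) (fun w hw => conj_comm_mem hPi hPi hw)
      fun g hg w hw => conj_comm_mem (fun u hu => mul_mem (mul_mem hg hu) (inv_mem hg))
        (fun u hu => mul_mem (mul_mem hg hu) (inv_mem hg)) hw)
    haveI : Group.IsSolvable P := isSolvable_of_le hP.1 M.op.solv
    haveI : Nontrivial P := nontrivial_iff_ne_bot P |>.2 hP0
    have h3 := map_subtype_commutator (H := P)
    rw [h] at h3
    refine (IsSolvable.commutator_lt_top_of_nontrivial P).ne ?_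
    apply Subgroup.map_injective P.subtype_injective
    rw [h3, ← MonoidHom.range_eq_map, range_subtype]
  have hsubP' : ∀ W : Subgroup G, W ≤ P → W ≠ ⊥ → (∀ w ∈ W, a * w * a⁻¹ ∈ W) → W = P := by
    intro W hW h0 hWi
    by_contra h
    exact hgood (hsubP W hW h0 h hWi fun g hg w hw => by
      rw [hPab g hg w (hW hw), mul_inv_cancel_right]; exact hw)
  have hCP : ∀ x ∈ P, a * x * a⁻¹ = x → x = 1 := by
    intro x hx hxa
    by_contra hx1
    have hW := hsubP' (P ⊓ centralizer ({a} : Set G)) inf_le_left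
      (fun h => hx1 (by
        have : x ∈ P ⊓ centralizer ({a} : Set G) := ⟨hx, fixed_iff.2 hxa⟩
        rwa [h, mem_bot] at this))
      (fun w hw => by rw [fixed_iff.1 hw.2]; exact hw)
    have hJV : ⁅J, zpowers a⁆ ≤ V := by
      rw [commutator_le]
      intro g hg b hb
      obtain ⟨v, hv, y, hy, rfl⟩ := mem_sup_exists hPn (hVP.ge hg : g ∈ V ⊔ P)
      have hyb : y * b = b * y := by
        obtain ⟨i, rfl⟩ := mem_zpowers_iff.1 hb
        exact ((show Commute y a from mem_centralizer_singleton_iff.1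
          (hW.ge hy : y ∈ P ⊓ centralizer ({a} : Set G)).2).zpow_right i).eq
      rw [commutatorElement_def, show v * y * b * (v * y)⁻¹ * b⁻¹ = v * (y * b) * y⁻¹ * v⁻¹ * b⁻¹ by
        group, hyb, show v * (b * y) * y⁻¹ * v⁻¹ * b⁻¹ = v * (b * v⁻¹ * b⁻¹) by group]
      refine mul_mem hv ?_
      exact (Subgroup.mem_normalizer_iff.1 (zpowers_le_normalizer hV.inv hb) _).1 (inv_mem hv)
    refine hP0 (le_bot_iff.1 fun y hy => ?_)
    rw [← disjoint_iff.1 hdisj]
    exact ⟨hJV (M.full.ge (hP.1 hy)), hy⟩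
  have hCVP : V ⊓ centralizer (P : Set G) = ⊥ := by
    by_contra h
    have hI : Inv a J (V ⊓ centralizer (P : Set G)) := by
      refine ⟨inf_le_left.trans hV.le, fun g hg w hw => ?_, fun w hw => ⟨hV.inv w hw.1, ?_⟩⟩
      · obtain ⟨v, hv, y, hy, rfl⟩ := mem_sup_exists hPn (hVP.ge hg : g ∈ V ⊔ P)
        rw [show v * y * w * (v * y)⁻¹ = v * (y * w * y⁻¹) * v⁻¹ by group,
          mem_centralizer_iff.1 hw.2 y hy, mul_inv_cancel_right, commV M hV hc hv hw.1,
          mul_inv_cancel_right]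
        exact hw
      · refine mem_centralizer_iff.2 fun y hy => ?_
        have h1 : a⁻¹ * y * a ∈ P :=
          (Subgroup.mem_normalizer_iff''.1 (zpowers_le_normalizer hPi (mem_zpowers a)) y).1 hy
        have h2 := mem_centralizer_iff.1 hw.2 _ h1
        calc y * (a * w * a⁻¹) = a * ((a⁻¹ * y * a) * w) * a⁻¹ := by group
          _ = a * (w * (a⁻¹ * y * a)) * a⁻¹ := by rw [h2]
          _ = _ := by group
    have hVe := hmin _ hI inf_le_left h
    refine hbot (le_bot_iff.1 (commutator_le.2 fun v hv g hg => ?_))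
    obtain ⟨v', hv', y, hy, rfl⟩ := mem_sup_exists hPn (hVP.ge hg : g ∈ V ⊔ P)
    rw [mem_bot, commutatorElement_eq_one_iff_mul_comm]
    exact (show Commute v v' from commV M hV hc hv hv').mul_right
      (mem_centralizer_iff.1 (hVe.ge hv : v ∈ V ⊓ centralizer (P : Set G)).2 y hy).symm
  obtain ⟨l, hl, hl1⟩ : ∃ l ∈ P, l ≠ 1 := by
    by_contra h
    push_neg at h
    exact hP0 (le_bot_iff.1 fun x hx => mem_bot.2 (h x hx))
  have hpP : Fact p.Prime := ⟨M.op.prime⟩
  have ha1 : a ≠ 1 := by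
    rintro rfl
    exact hl1 (hCP l hl (by simp))
  have hAcard : Nat.card (zpowers a) = p := by
    rw [Nat.card_zpowers, orderOf_eq_prime M.op.pow ha1]
  set Cv := V ⊓ centralizer ({a} : Set G) with hCv
  -- the module is free
  have hfree : Nat.card V = Nat.card Cv ^ p := by
    have hPA : zpowers a ≤ normalizer (P : Set G) := zpowers_le_normalizer hPi
    have hcopPA : P ⊓ zpowers a = ⊥ :=
      disjoint_iff.1 (Subgroup.disjoint_of_coprime_natCard (M.op.cop' hP.1).symm)
    have hsup : Nat.card ↥(P ⊔ zpowers a) = Nat.card P * p := by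
      rw [card_sup_disjoint hPA (disjoint_iff.2 hcopPA), hAcard]
    have hF := CfsgLib.Char.frobenius_fixed_formula P (zpowers a) V hcopPA
      (fun e he u hu => (Subgroup.mem_normalizer_iff.1 (hPA he) u).1 hu) ?_ ?_
      (isSolvable_of_isMulCommutative hc) ?_
    · rw [hAcard, centralizer_zpowers, hCVP, Subgroup.card_bot, mul_one] at hF
      have hb : V ⊓ centralizer ((P ⊔ zpowers a : Subgroup G) : Set G) = ⊥ := by
        refine le_bot_iff.1 ?_
        rw [← hCVP]
        exact inf_le_inf_left _ (centralizer_le (SetLike.coe_subset_coe.2 le_sup_left))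
      rw [hb, Subgroup.card_bot, one_pow, one_mul] at hF
      exact hF
    · intro e he he1 u hu heu
      refine hCP u hu ?_
      have htop : zpowers e = zpowers a := by
        refine Subgroup.eq_of_le_of_card_ge (zpowers_le.2 he) ?_
        rw [hAcard, Nat.card_zpowers, orderOf_eq_prime (p := p) ?_ he1]
        obtain ⟨i, rfl⟩ := mem_zpowers_iff.1 he
        rw [← zpow_natCast, ← zpow_mul, mul_comm, zpow_mul, zpow_natCast, M.op.pow, one_zpow]
      obtain ⟨i, hi⟩ := mem_zpowers_iff.1 (htop.ge (mem_zpowers a) : a ∈ zpowers e)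
      have : Commute a u := by
        rw [← hi]; exact (show Commute e u from heu).zpow_left i
      rw [this.eq, mul_inv_cancel_right]
    · intro x hx h hh
      have hle : P ⊔ zpowers a ≤ normalizer (V : Set G) :=
        sup_le hPn (zpowers_le_normalizer hV.inv)
      exact (Subgroup.mem_normalizer_iff.1 (hle hx) h).1 hh
    · rw [hsup]
      refine Nat.Coprime.mul_right hcopVP ?_
      exact (M.op.cop.coprime_dvd_left (card_dvd_of_le hV.le))
  -- every complement element is governed by two fixed vectors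
  have hWl : Wg a l = P := by
    refine hsubP' _ ((closure_le _).2 ?_) (fun h => hl1 (hCP l hl ?_)) (fun w hw => Wg_conj hw)
    · rintro _ ⟨i, rfl⟩
      refine mul_mem (inv_mem hl) ?_
      exact (Subgroup.mem_normalizer_iff.1 (zpowers_le_normalizer hPi
        (pow_mem (mem_zpowers a) i)) l).1 hl
    · have h1 : ce a l 1 ∈ Wg a l := subset_closure ⟨1, rfl⟩
      rw [h, mem_bot, ce, pow_one, inv_mul_eq_one] at h1
      exact h1.symm
  have hpair : ∀ v ∈ V, ∃ u ∈ Cv, ∃ w ∈ Cv, v = l⁻¹ * u * w * l * u⁻¹ := by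
    intro v hv
    set g := l * v with hg
    have hgJ : g ∈ J := mul_mem (hP.1 hl) (hV.le hv)
    set W := Wg a g with hW
    have hWJ : W ≤ J := (Wg_le_commutator hgJ).trans M.op.commutator_le
    have hWn : W ≤ normalizer (V : Set G) := fun x hx => Subgroup.mem_normalizer_iff.2 fun w =>
      ⟨hV.norm x (hWJ hx) w, fun h => by
        simpa [mul_assoc] using hV.norm x⁻¹ (inv_mem (hWJ hx)) _ h⟩
    have hVW : V ⊔ W = J := by
      refine le_antisymm (sup_le hV.le hWJ) ?_
      rw [← hVP]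
      refine sup_le le_sup_left ?_
      rw [← hWl]
      refine (closure_le _).2 ?_
      rintro _ ⟨i, rfl⟩
      have hb : a ^ i * v * (a ^ i)⁻¹ ∈ V := (Subgroup.mem_normalizer_iff.1
        (zpowers_le_normalizer hV.inv (pow_mem (mem_zpowers a) i)) v).1 hv
      have e : ce a l i = v * ce a g i * (a ^ i * v * (a ^ i)⁻¹)⁻¹ := by
        simp only [hg, ce]; group
      rw [SetLike.mem_coe, e]
      exact mul_mem (mul_mem (mem_sup_left hv) (mem_sup_right (subset_closure ⟨i, rfl⟩)))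
        (mem_sup_left (inv_mem hb))
    have hE : V ⊓ W = ⊥ := by
      by_contra h
      have hI : Inv a J (V ⊓ W) := by
        refine ⟨inf_le_left.trans hV.le, fun x hx w hw => ⟨hV.norm x hx w hw.1, ?_⟩,
          fun w hw => ⟨hV.inv w hw.1, Wg_conj hw.2⟩⟩
        obtain ⟨v', hv', y, hy, rfl⟩ := mem_sup_exists hWn (hVW.ge hx : x ∈ V ⊔ W)
        have h1 : y * w * y⁻¹ ∈ V := hV.norm y (hWJ hy) w hw.1
        rw [show v' * y * w * (v' * y)⁻¹ = v' * (y * w * y⁻¹) * v'⁻¹ by group,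
          commV M hV hc hv' h1, mul_inv_cancel_right]
        exact W.mul_mem (W.mul_mem hy hw.2) (W.inv_mem hy)
      have hVe := hmin _ hI inf_le_left h
      refine hgood (M.good_of_le hV hne fun x hx => ?_)
      exact mem_Kf hgJ (hVe.ge hx.1 : x ∈ V ⊓ W).2 hx.2
    have hWcard : Nat.card W = Nat.card P := by
      have h1 := card_sup_disjoint hWn (disjoint_iff.2 hE)
      have h2 := card_sup_disjoint hPn hdisj
      rw [hVW] at h1
      rw [hVP, h1] at h2
      exact Nat.eq_of_mul_eq_mul_left Nat.card_pos h2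
    have hWs : IsSylowIn r W J := ⟨hWJ, by rw [hWcard, hP.2]⟩
    obtain ⟨u, ⟨huJ, hua⟩, hu⟩ := invariant_sylow_conj M.op.norm (M.op.cop' le_rfl)
      (Or.inl Op.solvA) hP hWs (zpowers_le_normalizer hPi) (zpowers_le_normalizer fun _ => Wg_conj)
    rw [centralizer_zpowers] at hua
    obtain ⟨v0, hv0, y, hy, rfl⟩ := mem_sup_exists hPn (hVP.ge huJ : u ∈ V ⊔ P)
    have hy1 : y = 1 := by
      refine hCP y hy ?_
      have h1 : (a * v0 * a⁻¹) * (a * y * a⁻¹) = v0 * y := by
        rw [← fixed_iff.1 hua]; group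
      have h2 := Subgroup.mul_injective_of_disjoint hdisj
        (a₁ := ((⟨a * v0 * a⁻¹, hV.inv v0 hv0⟩, ⟨a * y * a⁻¹, hPi y hy⟩) : V × P))
        (a₂ := (⟨v0, hv0⟩, ⟨y, hy⟩)) h1
      exact congrArg (fun z : V × P => (z.2 : G)) h2
    subst hy1
    rw [mul_one] at hu hua
    refine ⟨v0, ⟨hv0, hua⟩, ?_⟩
    set v' := l⁻¹ * v0⁻¹ * l * v * v0 with hv'
    have hv'V : v' ∈ V := by
      have h1 : l⁻¹ * v0⁻¹ * l ∈ V := by
        simpa using hV.norm l⁻¹ (inv_mem (hP.1 hl)) _ (inv_mem hv0)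
      exact mul_mem (mul_mem h1 hv) hv0
    have hcP : ce a (l * v') 1 ∈ P := by
      have e : ce a (l * v') 1 = v0⁻¹ * ce a g 1 * v0 := by
        have hi : Commute v0 a := mem_centralizer_singleton_iff.1 hua
        calc ce a (l * v') 1 = v0⁻¹ * v⁻¹ * l⁻¹ * (v0 * a) * v0⁻¹ * l * v * (v0 * a⁻¹) := by
              simp only [hv', ce, pow_one]; group
          _ = v0⁻¹ * v⁻¹ * l⁻¹ * (a * v0) * v0⁻¹ * l * v * (a⁻¹ * v0) := by
              rw [hi.eq, hi.inv_right.eq]
          _ = v0⁻¹ * ce a g 1 * v0 := by simp only [hg, ce, pow_one]; group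
      rw [e]
      have h1 : ce a g 1 ∈ conjBy v0 P := hu.ge (subset_closure ⟨1, rfl⟩)
      rw [mem_conjBy] at h1
      exact h1
    have hc1 : ce a l 1 ∈ P := hWl.le (subset_closure ⟨1, rfl⟩)
    have hz : v'⁻¹ * (ce a l 1 * (a * v' * a⁻¹) * (ce a l 1)⁻¹) = 1 := by
      rw [← mem_bot, ← disjoint_iff.1 hdisj]
      refine ⟨V.mul_mem (V.inv_mem hv'V) (hV.norm _ (hP.1 hc1) _ (hV.inv _ hv'V)), ?_⟩
      have e : ce a (l * v') 1 * (ce a l 1)⁻¹ =
          v'⁻¹ * (ce a l 1 * (a * v' * a⁻¹) * (ce a l 1)⁻¹) := by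
        simp only [ce, pow_one]; group
      rw [SetLike.mem_coe, ← e]
      exact P.mul_mem hcP (P.inv_mem hc1)
    refine ⟨l * v' * l⁻¹, ⟨hV.norm l (hP.1 hl) v' hv'V, fixed_iff.2 ?_⟩, ?_⟩
    · rw [inv_mul_eq_one] at hz
      conv_rhs => rw [hz]
      simp only [ce, pow_one]; group
    · simp only [hv']; group
  choose! f hf f' hf' hff using hpair
  have hle : Nat.card V ≤ Nat.card (Cv × Cv) :=
    Nat.card_le_card_of_injective (fun v : V => ((⟨f v, hf v v.2⟩, ⟨f' v, hf' v v.2⟩) : Cv × Cv))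
      fun x y h => by
        have h1 : f (x : G) = f (y : G) := congrArg (fun z : Cv × Cv => (z.1 : G)) h
        have h2 : f' (x : G) = f' (y : G) := congrArg (fun z : Cv × Cv => (z.2 : G)) h
        exact Subtype.ext (by rw [hff x x.2, hff y y.2, h1, h2])
  rw [Nat.card_prod, hfree, ← sq] at hle
  have hV1 : 1 < Nat.card V := by
    haveI : Nontrivial V := nontrivial_iff_ne_bot V |>.2 hne
    exact Finite.one_lt_card
  have hC1 : 1 < Nat.card Cv := by
    by_contra h
    have : Nat.card Cv = 1 := by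
      have := Nat.card_pos (α := Cv)
      omega
    rw [hfree, this, one_pow] at hV1
    omega
  have h3 : p ≤ 2 := (Nat.pow_le_pow_iff_right hC1).1 hle
  have := M.op.prime.two_le
  have := M.op.odd
  omega

end

end CfsgLib.Char.ElementwiseFixed
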