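import Mathlib
import Cfsg.Agent.Lib.Char.ElementwiseFixed.Moved
import Cfsg.Agent.Lib.Char.ElementwiseFixed.Central

/-!
Fixed points of the commutator with an operator of odd prime order are generated elementwise.
-/

set_option autoImplicit false
set_option linter.unusedSectionVars false

namespace CfsgLib.Char.ElementwiseFixed

open Subgroup CfsgLib.Coprime
open scoped commutatorElement

universe u

theorem core : ∀ (n : ℕ) {G : Type u} [Group G] [Finite G] (p : ℕ) (a : G) (J : Subgroup G),
    Nat.card J ≤ n → Op p a J → ⁅J, zpowers a⁆ ⊓ centralizer ({a} : Set G) ≤ Kf a J := by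
  intro n
  induction n using Nat.strong_induction_on with
  | _ n ih =>
    intro G _ _ p a J hn h
    by_cases hD : ⁅J, zpowers a⁆ = J
    swap
    · have hlt : ⁅J, zpowers a⁆ < J := lt_of_le_of_ne h.commutator_le hD
      have hc : Nat.card ↥⁅J, zpowers a⁆ < n :=
        lt_of_lt_of_le (lt_of_le_of_ne (card_le_of_le hlt.le)
          fun e => hlt.ne (eq_of_le_of_card_ge hlt.le e.ge)) hn
      have := ih _ hc p a _ le_rfl (h.mono hlt.le fun w hw => conj_commutator h.inv hw)
      rw [h.commutator_twice] at this
      exact this.trans (Kf_mono hlt.le)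
    suffices hgood : Good a J by rw [hD]; exact hgood
    by_cases hne : J = ⊥
    · intro x hx
      have : x = 1 := mem_bot.1 (hne ▸ hx.1)
      rw [this]; exact one_mem _
    have M : Min p a J := by
      refine ⟨h, hD, fun W hW hWi => ?_, fun V hV hVne x hx hxa => ?_⟩
      · have hc : Nat.card W < n := lt_of_lt_of_le (lt_of_le_of_ne (card_le_of_le hW.le)
          fun e => hW.ne (eq_of_le_of_card_ge hW.le e.ge)) hn
        exact (ih _ hc p a _ le_rfl (h.mono hW.le hWi)).trans (Kf_mono hW.le)
      · -- pass to the quotient inside the normaliser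
        set N := normalizer (V : Set G) with hN
        have haN : a ∈ N := zpowers_le_normalizer hV.inv (mem_zpowers a)
        have hJN : J ≤ N := fun g hg => Subgroup.mem_normalizer_iff.2 fun w =>
          ⟨hV.norm g hg w, fun h' => by
            simpa [mul_assoc] using hV.norm g⁻¹ (inv_mem hg) _ h'⟩
        set a₁ : N := ⟨a, haN⟩
        set J₁ := J.subgroupOf N with hJ₁
        set V₁ := V.subgroupOf N
        haveI hVn : V₁.Normal :=
          (normal_subgroupOf_iff_le_normalizer le_normalizer).2 le_rfl
        have hmap : J₁.map N.subtype = J := map_subgroupOf_eq_of_le hJN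
        have hcard : Nat.card J₁ = Nat.card J :=
          Nat.card_congr (subgroupOfEquivOfLe hJN).toEquiv
        have h₁ : Op p a₁ J₁ :=
          { prime := h.prime
            odd := h.odd
            pow := Subtype.ext (by simpa using h.pow)
            inv := fun y hy => h.inv _ hy
            solv := by
              haveI := h.solv
              exact solvable_of_solvable_injective
                (f := (subgroupOfEquivOfLe hJN).toMonoidHom) (subgroupOfEquivOfLe hJN).injective
            cop := by rw [hcard]; exact h.cop }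
        have hD₁ : ⁅J₁, zpowers a₁⁆ = J₁ := by
          apply Subgroup.map_injective N.subtype_injective
          rw [commutator_map, hmap]
          exact hD
        set f := QuotientGroup.mk' V₁
        have hclt : Nat.card (J₁.map f) < n := by
          refine lt_of_lt_of_le ?_ hn
          rw [← hcard]
          have h1 : (f.comp J₁.subtype).range = J₁.map f := by
            rw [MonoidHom.range_comp, range_subtype]
          rw [← h1, ← Subgroup.index_ker]
          have h2 := Subgroup.card_mul_index (f.comp J₁.subtype).ker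
          have h3 : 1 < Nat.card (f.comp J₁.subtype).ker := by
            obtain ⟨v, hv, hv1⟩ : ∃ v ∈ V, v ≠ 1 := by
              by_contra hh
              push_neg at hh
              exact hVne (le_bot_iff.1 fun z hz => mem_bot.2 (hh z hz))
            have hm : (⟨⟨v, hJN (hV.le hv)⟩, hV.le hv⟩ : J₁) ∈ (f.comp J₁.subtype).ker :=
              (QuotientGroup.eq_one_iff (⟨v, hJN (hV.le hv)⟩ : N)).2 hv
            haveI : Nontrivial (f.comp J₁.subtype).ker :=
              ⟨⟨⟨_, hm⟩, 1, fun e => hv1 (congrArg
                (fun z : (f.comp J₁.subtype).ker => ((z.1 : N) : G)) e)⟩⟩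
            exact Finite.one_lt_card
          have h4 : 0 < (f.comp J₁.subtype).ker.index := Nat.pos_of_ne_zero FiniteIndex.index_ne_zero
          calc (f.comp J₁.subtype).ker.index = 1 * (f.comp J₁.subtype).ker.index := (one_mul _).symm
            _ < Nat.card (f.comp J₁.subtype).ker * (f.comp J₁.subtype).ker.index :=
              Nat.mul_lt_mul_of_pos_right h3 h4
            _ = _ := h2
        have h₂ : Op p (f a₁) (J₁.map f) :=
          { prime := h.prime
            odd := h.odd
            pow := by rw [← map_pow, h₁.pow, map_one]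
            inv := by
              rintro _ ⟨y, hy, rfl⟩
              exact ⟨a₁ * y * a₁⁻¹, h₁.inv y hy, by simp⟩
            solv := by
              haveI := h₁.solv
              exact solvable_of_surjective (f := f.subgroupMap J₁) (f.subgroupMap_surjective J₁)
            cop := h₁.cop.coprime_dvd_left (card_map_dvd _ _) }
        obtain ⟨k, hk, hkx⟩ := lift_fixed f h₁ hD₁ (ih _ hclt p _ _ le_rfl h₂)
          (x := ⟨x, hJN hx⟩) hx (mem_centralizer_singleton_iff.2
            (Subtype.ext (mem_centralizer_singleton_iff.1 hxa)))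
        refine ⟨k.1, ?_, ?_⟩
        · have h5 := Kf_map_le N.subtype a₁ J₁ (mem_map_of_mem _ hk)
          rw [hmap] at h5
          exact h5
        · have h6 : k⁻¹ * ⟨x, hJN hx⟩ ∈ V₁ := by rwa [QuotientGroup.ker_mk'] at hkx
          exact h6
    obtain ⟨V, q, hq, hV, hVne, hVc, hexp, hmin⟩ := M.exists_minimal hne
    have hle : ⁅V, J⁆ ≤ V := commutator_le.2 fun v hv g hg => comm_mem_V M hV hVc hv hg
    by_cases h0 : ⁅V, J⁆ = ⊥
    · refine good_of_central M hq hV hVne hexp hmin fun v hv => mem_centralizer_iff.2 fun g hg => ?_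
      have := commutator_mem_commutator hv (show g ∈ J from hg)
      rw [h0, mem_bot, commutatorElement_eq_one_iff_mul_comm] at this
      exact this.symm
    · refine good_of_moved M hV hVc hq hVne hexp hmin (hmin _ ⟨hle.trans hV.le,
        fun g hg w hw => conj_comm_mem (hV.norm g hg)
          (fun u hu => mul_mem (mul_mem hg hu) (inv_mem hg)) hw,
        fun w hw => conj_comm_mem hV.inv h.inv hw⟩ hle h0)

open SemidirectProduct in
/-- The elementwise generation of the fixed points of the commutator. -/
theorem main {H : Type u} [Group H] [Finite H] [Group.IsSolvable H] {p : ℕ} [Fact p.Prime]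
    (hp : p ≠ 2) (hcop : (Nat.card H).Coprime p) (x : MulAut H) (hx : x ^ p = 1) :
    Subgroup.closure {c : H | ∃ h : H, ∃ i : ℕ, c = h⁻¹ * (x ^ i) h} ⊓
        (x : H →* H).eqLocus (MonoidHom.id H) =
      ⨆ h : H, Subgroup.closure {c : H | ∃ i : ℕ, c = h⁻¹ * (x ^ i) h} ⊓
        (x : H →* H).eqLocus (MonoidHom.id H) := by
  refine le_antisymm ?_ (iSup_le fun h => inf_le_inf_right _ (Subgroup.closure_mono
    fun c ⟨i, hi⟩ => ⟨h, i, hi⟩))
  haveI : Finite (MulAut H) := Finite.of_injective _ DFunLike.coe_injective
  haveI : Finite (H ⋊[MonoidHom.id (MulAut H)] MulAut H) :=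
    Finite.of_equiv _ SemidirectProduct.equivProd.symm
  let a : H ⋊[MonoidHom.id (MulAut H)] MulAut H := inr x
  let ι : H →* H ⋊[MonoidHom.id (MulAut H)] MulAut H := inl
  have hι : Function.Injective ι := inl_injective
  have hconj : ∀ (i : ℕ) (h : H), a ^ i * ι h * (a ^ i)⁻¹ = ι ((x ^ i) h) := by
    intro i h
    simp only [a, ι, ← map_pow, ← map_inv]
    rw [← inl_aut]
    rfl
  have hce : ∀ h i, ce a (ι h) i = ι (h⁻¹ * (x ^ i) h) := fun h i => by
    rw [ce, hconj, map_mul, map_inv]
  set J := ι.range with hJ
  have hop : Op p a J :=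
    { prime := Fact.out
      odd := hp
      pow := by simp only [a, ← map_pow, hx, map_one]
      inv := by
        rintro _ ⟨h, rfl⟩
        exact ⟨(x ^ 1) h, by have := hconj 1 h; rw [pow_one] at this ⊢; exact this.symm⟩
      solv := solvable_of_surjective (f := ι.rangeRestrict) ι.rangeRestrict_surjective
      cop := by rwa [Nat.card_congr (MonoidHom.ofInjective hι).symm.toEquiv] }
  have hcore := core _ p a J le_rfl hop
  have hfix : ∀ h : H, ι h ∈ centralizer ({a} : Set _) ↔
      h ∈ (x : H →* H).eqLocus (MonoidHom.id H) := by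
    intro h
    have := hconj 1 h
    rw [pow_one, pow_one] at this
    rw [fixed_iff, this, hι.eq_iff]
    rfl
  rintro c ⟨hc, hcx⟩
  have h1 : ι c ∈ Kf a J := by
    refine hcore ⟨?_, (hfix c).2 hcx⟩
    rw [commutator_eq_closure]
    have hm := mem_map_of_mem ι hc
    rw [MonoidHom.map_closure] at hm
    refine closure_mono ?_ hm
    rintro _ ⟨y, ⟨h, i, rfl⟩, rfl⟩
    exact ⟨ι h, ⟨h, rfl⟩, i, (hce h i).symm⟩
  have h2 : Kf a J ≤ (⨆ h : H, Subgroup.closure {c : H | ∃ i : ℕ, c = h⁻¹ * (x ^ i) h} ⊓
      (x : H →* H).eqLocus (MonoidHom.id H)).map ι := by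
    refine iSup₂_le ?_
    rintro _ ⟨h, rfl⟩ y ⟨hyW, hya⟩
    have hW : Wg a (ι h) = (Subgroup.closure {c : H | ∃ i : ℕ, c = h⁻¹ * (x ^ i) h}).map ι := by
      rw [Wg, MonoidHom.map_closure]
      congr 1
      ext z
      constructor
      · rintro ⟨i, rfl⟩
        exact ⟨_, ⟨i, rfl⟩, (hce h i).symm⟩
      · rintro ⟨_, ⟨i, rfl⟩, rfl⟩
        exact ⟨i, hce h i⟩
    rw [hW] at hyW
    obtain ⟨y', hy', rfl⟩ := hyW
    exact mem_map_of_mem ι (mem_iSup_of_mem h ⟨hy', (hfix y').1 hya⟩)
  obtain ⟨c', hc', e⟩ := h2 h1
  rwa [← hι e]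

end CfsgLib.Char.ElementwiseFixed
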